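import Cfsg.Agent.Lib.Spor.HN.A12Data

/-!
Relations of the alternating subgroup (generated data).
-/

namespace CfsgLib.Spor.HN.AD

open CfsgLib.PresCert CfsgLib.DCE

theorem a12_cube : okTriv (xw 0 ++ xw 0 ++ xw 0) = true := by decide +kernel

theorem a12_sq : (allBelow 9 fun i => okTriv (xw (i + 1) ++ xw (i + 1))) = true := by decide +kernel

theorem a12_braid : (allBelow 9 fun i =>
    okTriv ((xw i ++ xw (i + 1)) ++ (xw i ++ xw (i + 1)) ++ (xw i ++ xw (i + 1)))) = true := by
  decide +kernel

end CfsgLib.Spor.HN.AD
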