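import Cfsg.Agent.Lib.Spor.HN.A12Data

/-!
Relations of the alternating subgroup (generated data).
-/

namespace CfsgLib.Spor.HN.AD

open CfsgLib.PresCert CfsgLib.DCE

theorem a12_far2 : (allBelow 3 fun i => allBelow 10 fun j =>
    Nat.ble j (i + 0 + 1) ||
      okTriv ((xw (i + 0) ++ xw j) ++ (xw (i + 0) ++ xw j))) = true := by decide +kernel

end CfsgLib.Spor.HN.AD
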