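import Cfsg.Agent.Lib.Spor.HN.Simple
import Cfsg.Agent.Lib.Spor.HN.A12Rels1
import Cfsg.Agent.Lib.Spor.HN.A12Rels2
import Cfsg.Agent.Lib.Spor.HN.A12Rels3
import Cfsg.Agent.Lib.Recog.CarmichaelPresentation

/-!
An alternating subgroup of degree 12 in the presented Harada-Norton group, and the permutation
representation of degree 1140000 on its cosets.
-/

namespace CfsgLib.Spor.HN

open CfsgLib.PresCert CfsgLib.DCE

/-- steps fixing the test points give a trivial word -/
theorem eq_one_of_okTriv {w : List Nat} (h : AD.okTriv w = true) : wv hgen w = 1 := by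
  simp only [AD.okTriv, Bool.and_eq_true, List.all_eq_true, Nat.blt_eq] at h
  obtain ⟨⟨hl, h0⟩, hv⟩ := h
  have e : ∀ z : Omega, rho (wv hgen w)⁻¹ z = actK.run w z := fun z => by
    simpa using iterate_rho hl 1 z
  apply inv_eq_one.1
  have hz : actK.pnt ⟨0, zero_lt_orbs⟩ (permsK.val []) = omega0 := by
    simp [omega0, Perms.val, wv]
  obtain ⟨u, hu⟩ := mem_range_of_fix (g := (wv hgen w)⁻¹) (by
    rw [e, ← hz]
    exact actK.back_of_ok ⟨0, zero_lt_orbs⟩ h0)
  rw [← hu]
  suffices u = 1 by rw [this, map_one]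
  refine k_faithful.1 u fun b hb => ?_
  have hbw : (GK.base.all fun b => AD.baseWords.any fun v =>
      (v.all fun x => Nat.blt x GK.P.g) && Nat.beq (GK.P.app v 0) b) = true := by decide +kernel
  obtain ⟨v, hv', hvlt, hvb⟩ : ∃ v ∈ AD.baseWords,
      (∀ x ∈ v, x < GK.P.g) ∧ GK.P.app v 0 = (b : Nat) := by
    simpa using List.all_eq_true.1 hbw b hb
  have h1 : 1 < AD.A.orbs.length := by rw [len_orbs]; omega
  have hfix : u • actK.pnt ⟨1, h1⟩ (permsK.val v) = actK.pnt ⟨1, h1⟩ (permsK.val v) := by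
    have e2 := e (actK.pnt ⟨1, h1⟩ (permsK.val v))
    rw [← hu, ← MonoidHom.comp_apply rho psiK, rho_psiK] at e2
    exact e2.trans (actK.back_of_ok ⟨1, h1⟩ (hv v hv'))
  rw [actK.smul_pnt, actK.pnt_eq_iff] at hfix
  have hall : ((AD.A.orb 1).gens.all fun w => (w.all fun x => Nat.blt x GK.P.g) &&
      Nat.beq (GK.P.app w 0) 0) = true := by decide +kernel
  have hle : actK.stab ⟨1, h1⟩ ≤ Ufix := by
    show permsK.sub (AD.A.orb 1).gens ≤ _
    rw [Perms.sub, Subgroup.closure_le]
    rintro _ ⟨x, hx, rfl⟩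
    have := List.all_eq_true.1 hall x hx
    simp only [Bool.and_eq_true, List.all_eq_true, Nat.blt_eq, Nat.beq_eq] at this
    refine ⟨trivial, fun j hj => Fin.ext ?_⟩
    rw [← permsK.app_eq x this.1 j, List.mem_singleton.1 hj]
    exact this.2
  let s0 : Fin GK.P.n := ⟨0, by decide +kernel⟩
  have hqw : permsK.act (permsK.val v) s0 = b := Fin.ext (by
    rw [← hvb]
    exact (permsK.app_eq v hvlt s0).symm)
  have hf := (hle hfix).2 s0 (List.mem_singleton.2 rfl)
  rw [permsK.act_mul, permsK.act_mul, hqw] at hf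
  have e3 : permsK.act u⁻¹ b = b := by
    have h2 := congrArg (permsK.act (permsK.val v)) hf
    rwa [← permsK.act_mul _ (permsK.val v), inv_mul_cancel, permsK.act_one, hqw] at h2
  conv_lhs => rw [← e3]
  rw [← permsK.act_mul, inv_mul_cancel, permsK.act_one]

/-- images of Carmichael's generators -/
noncomputable def xA (i : Fin 10) : GHN := wv hgen (AD.xw i)

theorem xA_rels : ∀ r ∈ Recog.carmichaelRelators 10, FreeGroup.lift xA r = 1 := by
  rintro r (((⟨i, hi, rfl⟩ | ⟨i, hi, rfl⟩) | ⟨i, j, hij, rfl⟩) | ⟨i, j, hij, rfl⟩) <;>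
    simp only [map_pow, map_mul, FreeGroup.lift_apply_of, xA]
  · rw [hi, pow_three, ← mul_assoc, ← wv_append, ← wv_append]
    exact eq_one_of_okTriv AD.a12_cube
  · obtain ⟨k, hk⟩ : ∃ k, (i : Nat) = k + 1 := ⟨i - 1, by omega⟩
    rw [hk, pow_two, ← wv_append]
    exact eq_one_of_okTriv (allBelow_spec AD.a12_sq k (by omega))
  · rw [hij, pow_three, ← mul_assoc, ← wv_append, ← wv_append, ← wv_append]
    exact eq_one_of_okTriv (allBelow_spec AD.a12_braid i (by omega))
  · rw [pow_two, ← wv_append, ← wv_append]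
    apply eq_one_of_okTriv
    have hble : ∀ m, i.val = m → Nat.ble (j : Nat) (m + 1) = false := fun m hm =>
      Bool.eq_false_iff.2 fun e => by
        have := Nat.le_of_ble_eq_true e
        omega
    rcases Nat.lt_or_ge (i : Nat) 3 with h3 | h3
    · have := allBelow_spec (allBelow_spec AD.a12_far2 i h3) j j.2
      rw [show (i : Nat) + 0 + 1 = i + 1 from rfl, hble i rfl, Bool.false_or] at this
      simpa using this
    · have := allBelow_spec (allBelow_spec AD.a12_far3 (i - 3) (by omega)) j j.2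
      rw [show (i : Nat) - 3 + 3 = i by omega] at this
      rw [hble i rfl, Bool.false_or] at this
      exact this

/-- the map of the presented alternating group -/
noncomputable def xHom : PresentedGroup (Recog.carmichaelRelators 10) →* GHN :=
  PresentedGroup.toGroup xA_rels

theorem xA_zero_ne : xA 0 ≠ 1 := by
  intro h
  have hw : ∀ x ∈ AD.xw 0, x < 6 := by decide +kernel
  rw [xA, show ((0 : Fin 10) : Nat) = 0 from rfl, ← psiK_val (AD.xw 0) hw] at h
  have h1 : permsK.val (AD.xw 0) = 1 := psiK_injective (h.trans (map_one psiK).symm)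
  have e : (GK.base.all fun b => Nat.beq (GK.P.app (AD.xw 0) b) b) = false := by decide +kernel
  refine absurd ?_ (Bool.eq_false_iff.1 e)
  simp only [List.all_eq_true, Nat.beq_eq]
  intro b hb
  have hlt : b < GK.P.n := base_lt_k b hb
  have := permsK.app_eq (AD.xw 0) hw ⟨b, hlt⟩
  rw [h1, permsK.act_one] at this
  exact this

theorem a12_subgroup : ∃ M : Subgroup GHN,
    Nonempty (M ≃* alternatingGroup (Fin 12)) ∧ M.index = 1140000 := by
  obtain ⟨e⟩ := Recog.presentation_alternating 10 (by norm_num)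
  have : IsSimpleGroup (alternatingGroup (Fin 12)) := alternatingGroup.isSimpleGroup (by simp)
  have : IsSimpleGroup (PresentedGroup (Recog.carmichaelRelators 10)) :=
    (e.isSimpleGroup_congr).2 ‹_›
  have hne : xHom.ker ≠ ⊤ := fun h => xA_zero_ne (by
    have hm : (PresentedGroup.of (0 : Fin 10)) ∈ xHom.ker := h ▸ Subgroup.mem_top _
    exact (PresentedGroup.toGroup.of xA_rels).symm.trans hm)
  have hinj : Function.Injective xHom := (MonoidHom.ker_eq_bot_iff xHom).1
    (((inferInstance : xHom.ker.Normal).eq_bot_or_eq_top).resolve_right hne)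
  refine ⟨xHom.range, ⟨(MonoidHom.ofInjective hinj).symm.trans e⟩, ?_⟩
  have h := xHom.range.card_mul_index
  have hc : Nat.card xHom.range = 239500800 := by
    rw [Nat.card_congr ((MonoidHom.ofInjective hinj).symm.trans e).toEquiv]
    show Nat.card (alternatingGroup (Fin 12)) = 239500800
    have h2 := two_mul_nat_card_alternatingGroup (α := Fin 12)
    rw [Nat.card_perm, Nat.card_fin] at h2
    rw [show Nat.factorial 12 = 479001600 by decide +kernel] at h2
    omega
  rw [hc, ghn_card] at h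
  omega

theorem hn_perm_realization : ∃ H : Subgroup (Equiv.Perm (Fin 1140000)),
    Cfsg.IsHN H ∧ MulAction.IsPretransitive H (Fin 1140000) ∧
      Nonempty (MulAction.stabilizer H (0 : Fin 1140000) ≃* alternatingGroup (Fin 12)) := by
  obtain ⟨M, ⟨f⟩, hidx⟩ := a12_subgroup
  have := ghn_finite
  obtain ⟨hsimp, hcard⟩ := isHN_ghn
  let e0 : GHN ⧸ M ≃ Fin 1140000 :=
    Finite.equivFinOfCardEq (by rw [← Subgroup.index_eq_card, hidx])
  let e : GHN ⧸ M ≃ Fin 1140000 :=
    e0.trans (Equiv.swap (e0 ((1 : GHN) : GHN ⧸ M)) 0)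
  have he : e ((1 : GHN) : GHN ⧸ M) = 0 := Equiv.swap_apply_left _ _
  let π : GHN →* Equiv.Perm (Fin 1140000) :=
    e.permCongrHom.toMonoidHom.comp (MulAction.toPermHom GHN (GHN ⧸ M))
  have hπ : ∀ g z, π g (e z) = e (g • z) := fun g z => by
    simp [π, Equiv.permCongrHom, Equiv.permCongr_apply]
  have hfix : ∀ g, π g 0 = 0 ↔ g ∈ M := by
    intro g
    rw [← he, hπ, e.apply_eq_iff_eq]
    show ((g * 1 : GHN) : GHN ⧸ M) = ((1 : GHN) : GHN ⧸ M) ↔ _
    rw [mul_one, eq_comm, QuotientGroup.eq, inv_one, one_mul]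
  have hinj : Function.Injective π := by
    refine (MonoidHom.ker_eq_bot_iff π).1
      (((inferInstance : π.ker.Normal).eq_bot_or_eq_top).resolve_right fun h => ?_)
    have hM : M = ⊤ := top_le_iff.1 fun g _ => (hfix g).1 (by
      rw [(MonoidHom.mem_ker.1 (h ▸ Subgroup.mem_top g : g ∈ π.ker) : π g = 1)]
      rfl)
    rw [hM, Subgroup.index_top] at hidx
    omega
  let φ : GHN ≃* π.range := MonoidHom.ofInjective hinj
  refine ⟨π.range, ⟨(φ.symm.isSimpleGroup_congr).2 hsimp, ?_⟩, ⟨fun a b => ?_⟩, ?_⟩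
  · rw [← hcard]
    exact Nat.card_congr φ.symm.toEquiv
  · obtain ⟨g, hg⟩ := MulAction.exists_smul_eq GHN (e.symm a) (e.symm b)
    refine ⟨φ g, ?_⟩
    show π g a = b
    rw [← e.apply_symm_apply a, hπ, hg, e.apply_symm_apply]
  · have hst : MulAction.stabilizer π.range (0 : Fin 1140000) = M.map φ.toMonoidHom := by
      ext h
      obtain ⟨g, rfl⟩ := φ.surjective h
      rw [MulAction.mem_stabilizer_iff]
      constructor
      · intro hh
        exact ⟨g, (hfix g).1 hh, rfl⟩
      · rintro ⟨g', hg', e'⟩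
        obtain rfl : g' = g := φ.injective e'
        exact (hfix g').2 hg'
    exact ⟨((MulEquiv.subgroupCongr hst).trans
      (M.equivMapOfInjective φ.toMonoidHom φ.injective).symm).trans f⟩

end CfsgLib.Spor.HN
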