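import Cfsg.Agent.Lib.Spor.HN.ActData
import Cfsg.Agent.Lib.Spor.HN.ActHints
import Cfsg.Agent.Lib.DCE.ActRel

/-!
Words in `x, y, z, t` for Carmichael's generators of an alternating subgroup of degree 12 (generated data).
-/

namespace CfsgLib.Spor.HN.AD

open CfsgLib.PresCert CfsgLib.DCE

/-- the words -/
def a12Words : List (List Nat) :=
  [[4, 3, 3, 4, 2, 2, 2, 4, 3, 4],
  [2, 0, 2, 0, 3, 4, 2, 4, 2, 1, 4, 3, 3, 4, 3],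
  [3, 1, 4, 2, 4, 3, 3, 4, 2, 2, 4],
  [4, 2, 4, 2, 2, 2, 4, 3, 4],
  [3, 3, 4, 2, 4, 2, 0, 4, 2, 2, 2, 1, 2, 4],
  [2, 0, 2, 4, 3, 4, 2, 4, 2, 0, 4, 2, 0, 3],
  [0, 2, 4, 3, 3, 0, 2, 2, 4, 2, 4, 3, 3, 0, 2, 2, 6, 4, 3, 4, 2, 2, 6, 1, 4],
  [0, 0, 4, 3, 3, 4, 2, 2, 4],
  [4, 3, 3, 4, 2, 2, 1, 3, 4, 6, 4, 2, 1, 6, 4],
  [4, 3, 3, 4, 2, 2, 4]]

/-- a word -/
def xw (i : Nat) : List Nat := a12Words.getD i []

/-- the steps fix the points deciding equality -/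
noncomputable def okTriv (w : List Nat) : Bool :=
  (w.all fun x => Nat.blt x (nat_lit 7)) && A.okBack w (nat_lit 0) [] (nat_lit 0) &&
    baseWords.all fun v => A.okBack w (nat_lit 1) v (nat_lit 0)

end CfsgLib.Spor.HN.AD
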