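import Cfsg.Agent.Lib.Spor.HN.ActData
import Cfsg.Agent.Lib.DCE.ActStab

/-!
Checks of an orbit (generated data).
-/

namespace CfsgLib.Spor.HN.AD

open CfsgLib.PresCert CfsgLib.DCE

theorem orb2_ok : A.okOrb 2 = true := by decide +kernel

theorem points2_ok : A.okPoints 2 0 1408 = true := by decide +kernel

theorem roots2_ok : A.okRoots 2 0 4 = true := by decide +kernel

theorem stab2_ok : A.okStab 2 80640 = true := by decide +kernel

end CfsgLib.Spor.HN.AD
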