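import Cfsg.Agent.Lib.Spor.HN.ActData
import Cfsg.Agent.Lib.DCE.ActStab

/-!
Checks of an orbit (generated data).
-/

namespace CfsgLib.Spor.HN.AD

open CfsgLib.PresCert CfsgLib.DCE

theorem orb3_ok : A.okOrb 3 = true := by decide +kernel

theorem points3_ok : A.okPoints 3 0 1408 = true := by decide +kernel

theorem roots3_ok : A.okRoots 3 0 14 = true := by decide +kernel

theorem stab3_ok : A.okStab 3 5040 = true := by decide +kernel

end CfsgLib.Spor.HN.AD
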