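import Cfsg.Agent.Lib.Spor.HN.ActData
import Cfsg.Agent.Lib.Spor.HN.ActLevels

/-!
Checks of the levels and rows (generated data).
-/

namespace CfsgLib.Spor.HN.AD

open CfsgLib.PresCert CfsgLib.DCE

theorem flat_ok : okFlat GK.P ft = true := by decide +kernel

theorem kp1_ok : okWLevels GK.P [] kp1 = true := by decide +kernel

theorem kp2_ok : okWLevels GK.P [] kp2 = true := by decide +kernel

theorem kp3_ok : okWLevels GK.P [] kp3 = true := by decide +kernel

theorem kp4_ok : okWLevels GK.P [] kp4 = true := by decide +kernel

theorem kp5_ok : okWLevels GK.P [] kp5 = true := by decide +kernel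

theorem kp6_ok : okWLevels GK.P [] kp6 = true := by decide +kernel

theorem kp7_ok : okWLevels GK.P [] kp7 = true := by decide +kernel

theorem kp8_ok : okWLevels GK.P [] kp8 = true := by decide +kernel


end CfsgLib.Spor.HN.AD
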