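import Cfsg.Agent.Lib.Spor.HN.KFaithful
import Cfsg.Agent.Lib.Spor.HN.GKSub
import Cfsg.Agent.Lib.Spor.HN.ActFlat
import Cfsg.Agent.Lib.Spor.HN.ActChk0
import Cfsg.Agent.Lib.Spor.HN.ActChk1
import Cfsg.Agent.Lib.Spor.HN.ActChk2
import Cfsg.Agent.Lib.Spor.HN.ActChk3
import Cfsg.Agent.Lib.Spor.HN.ActChk4
import Cfsg.Agent.Lib.Spor.HN.ActChk5
import Cfsg.Agent.Lib.Spor.HN.ActChk6
import Cfsg.Agent.Lib.Spor.HN.ActChk7
import Cfsg.Agent.Lib.Spor.HN.ActChk8

/-!
The action of the group on `x, y, z` on 1539000 points, and the orders of the orbit stabilisers.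
-/

namespace CfsgLib.Spor.HN

open CfsgLib.PresCert CfsgLib.DCE

/-- the old and the short generators are the same elements -/
noncomputable def okSame (ws gens : List (List Nat)) : Bool :=
  (ws.all fun w => w.all fun x => Nat.blt x (nat_lit 6)) &&
    (gens.all fun w => w.all fun x => Nat.blt x (nat_lit 6)) &&
    allBelow ws.length fun i => Nat.blt (Nat.div i (nat_lit 2)) gens.length &&
      GK.base.all fun b => Nat.beq (fapp AD.ft (ws.getD i []) b)
        (bif Nat.beq (Nat.mod i (nat_lit 2)) (nat_lit 0) then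
          fapp AD.ft (gens.getD (Nat.div i (nat_lit 2)) []) b
        else bapp AD.ft (gens.getD (Nat.div i (nat_lit 2)) []) b)

theorem sub_le_of_same {ws gens : List (List Nat)} (h : okSame ws gens = true) :
    permsK.sub ws ≤ permsK.sub gens := by
  simp only [okSame, Bool.and_eq_true, List.all_eq_true, Nat.blt_eq] at h
  obtain ⟨⟨hw, hg⟩, ha⟩ := h
  rw [Perms.sub, Subgroup.closure_le]
  rintro _ ⟨w, hm, rfl⟩
  obtain ⟨i, hi, rfl⟩ := List.getElem_of_mem hm
  have e := allBelow_spec ha i hi
  simp only [Bool.and_eq_true, Nat.blt_eq, List.all_eq_true, Nat.beq_eq,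
    List.getD_eq_getElem?_getD, List.getElem?_eq_getElem hi, Option.getD_some] at e
  obtain ⟨hl, hb⟩ := e
  simp only [List.getElem?_eq_getElem hl, Option.getD_some] at hb
  have hv : ∀ x ∈ gens[Nat.div i 2], x < GK.P.g := hg _ (List.getElem_mem hl)
  have hu : ∀ x ∈ ws[i], x < GK.P.g := hw _ (List.getElem_mem hi)
  have hmem : permsK.val gens[Nat.div i 2] ∈ permsK.sub gens :=
    Subgroup.subset_closure ⟨_, List.getElem_mem hl, rfl⟩
  have key : ∀ v : GrpK, (∀ b : Fin GK.P.n, (b : Nat) ∈ GK.base →
      permsK.act (permsK.val ws[i]) b = permsK.act v b) → permsK.val ws[i] = v := fun v hh => by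
    rw [← mul_inv_eq_one]
    refine k_faithful.1 _ fun b hb => ?_
    rw [permsK.act_mul, hh b hb, ← permsK.act_mul, mul_inv_cancel, permsK.act_one]
  show permsK.val ws[i] ∈ permsK.sub gens
  cases hp : Nat.beq (Nat.mod i 2) 0 with
  | true =>
    rw [key (permsK.val gens[Nat.div i 2]) fun b hbb => Fin.ext ?_]
    · exact hmem
    have := hb b hbb
    rw [hp, cond_true, permsK.fapp_act AD.flat_ok _ hu, permsK.fapp_act AD.flat_ok _ hv] at this
    exact this
  | false =>
    rw [key (permsK.val gens[Nat.div i 2])⁻¹ fun b hbb => Fin.ext ?_]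
    · exact inv_mem hmem
    have := hb b hbb
    rw [hp, cond_false, permsK.fapp_act AD.flat_ok _ hu, permsK.bapp_act AD.flat_ok _ hv] at this
    exact this

/-- the orders of the orbit stabilisers -/
def orders : List Nat := [177408000, 126000, 80640, 5040, 1440, 500, 240, 30720, 640]

/-- levels above the tuples -/
noncomputable def kps : List (List WLevel) :=
  [[], AD.kp1, AD.kp2, AD.kp3, AD.kp4, AD.kp5, AD.kp6, AD.kp7, AD.kp8]

/-- the tuples match the levels and give the orders -/
noncomputable def okBound (k : Nat) : Bool :=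
  ((kps.getD k []).all fun L => (AD.A.orb k).tup.refs.contains L.base) &&
    Nat.beq (Nat.mul (AD.A.orb k).tup.b (177408000 / ((kps.getD k []).map WLevel.len).prod))
      (orders.getD k 0) &&
    Nat.blt 0 ((kps.getD k []).map WLevel.len).prod

theorem bound_ok : allBelow 9 okBound = true := by decide +kernel

theorem len_orbs : AD.A.orbs.length = 9 := by decide +kernel

theorem orb_all_ok : ∀ k < AD.A.orbs.length, AD.A.okOrb k = true := by
  rw [len_orbs]
  intro k hk
  interval_cases k
  · exact AD.orb0_ok
  · exact AD.orb1_ok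
  · exact AD.orb2_ok
  · exact AD.orb3_ok
  · exact AD.orb4_ok
  · exact AD.orb5_ok
  · exact AD.orb6_ok
  · exact AD.orb7_ok
  · exact AD.orb8_ok

theorem kps_ok : ∀ k < 9, okWLevels GK.P [] (kps.getD k []) = true := by
  intro k hk
  interval_cases k
  · rfl
  · exact AD.kp1_ok
  · exact AD.kp2_ok
  · exact AD.kp3_ok
  · exact AD.kp4_ok
  · exact AD.kp5_ok
  · exact AD.kp6_ok
  · exact AD.kp7_ok
  · exact AD.kp8_ok

theorem stab_upper {k : Nat} (hk : k < AD.A.orbs.length) :
    (AD.A.orb k).tup.b * Nat.card (permsK.fixIn ⊤ (AD.A.orb k).tup.refs) ≤ orders.getD k 0 ∧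
      Nat.card (permsK.sub (AD.A.orb k).gens) ≤ orders.getD k 0 := by
  obtain ⟨hfin, -⟩ := gk_bound
  have hk9 : k < 9 := len_orbs ▸ hk
  have h := allBelow_spec bound_ok k hk9
  simp only [okBound, Bool.and_eq_true, List.all_eq_true, List.contains_iff_mem, Nat.beq_eq,
    Nat.blt_eq] at h
  obtain ⟨⟨hsub, heq⟩, hpos⟩ := h
  have hl := permsK.wlevels_bound ⊤ (kps.getD k []) [] (kps_ok k hk9) fun _ _ _ _ => trivial
  have hle : permsK.fixIn ⊤ (AD.A.orb k).tup.refs ≤
      permsK.fixIn ⊤ (((kps.getD k []).map WLevel.base).reverse ++ []) := fun x hx =>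
    ⟨trivial, fun i hi => hx.2 i (by
      rw [List.append_nil, List.mem_reverse, List.mem_map] at hi
      obtain ⟨L, hL, e⟩ := hi
      exact e ▸ hsub L hL)⟩
  have hc : Nat.card (permsK.fixIn ⊤ ([] : List Nat)) ≤ 177408000 :=
    k_faithful.2 ▸ Subgroup.card_le_card_group _
  have h1 : Nat.card (permsK.fixIn ⊤ (AD.A.orb k).tup.refs) ≤
      177408000 / ((kps.getD k []).map WLevel.len).prod := by
    rw [Nat.le_div_iff_mul_le hpos, mul_comm]
    exact (Nat.mul_le_mul_left _ (Subgroup.card_le_of_le hle)).trans (hl.trans hc)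
  have h2 : (AD.A.orb k).tup.b * Nat.card (permsK.fixIn ⊤ (AD.A.orb k).tup.refs) ≤
      orders.getD k 0 := heq ▸ Nat.mul_le_mul_left (AD.A.orb k).tup.b h1
  refine ⟨h2, le_trans ?_ h2⟩
  have h3 := orb_all_ok k hk
  simp only [Act.okOrb, Bool.and_eq_true, List.all_eq_true, Act.okW, Nat.blt_eq] at h3
  exact TOrb.sub_card_le permsK _ AD.flat_ok h3.1.1 h3.2

theorem stab_lower : ∀ k < AD.A.orbs.length,
    orders.getD k 0 ≤ Nat.card (permsK.sub (AD.A.orb k).gens) := by
  obtain ⟨hfin, -⟩ := gk_bound
  rw [len_orbs]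
  intro k hk
  interval_cases k
  · refine le_trans ?_ ((k_sub_card GK.s0_els GK.S0ls GK.s0_levels GK.s0_gens).trans
      (Subgroup.card_le_of_le (sub_le_of_same (ws := GK.S0ws) (by decide +kernel))))
    exact (by decide +kernel : 177408000 ≤ (GK.S0ls.map WLevel.len).prod)
  · refine le_trans ?_ ((k_sub_card GK.s1_els GK.S1ls GK.s1_levels GK.s1_gens).trans
      (Subgroup.card_le_of_le (sub_le_of_same (ws := GK.S1ws) (by decide +kernel))))
    exact (by decide +kernel : 126000 ≤ (GK.S1ls.map WLevel.len).prod)
  · refine le_trans ?_ ((k_sub_card GK.s2_els GK.S2ls GK.s2_levels GK.s2_gens).trans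
      (Subgroup.card_le_of_le (sub_le_of_same (ws := GK.S2ws) (by decide +kernel))))
    exact (by decide +kernel : 80640 ≤ (GK.S2ls.map WLevel.len).prod)
  · refine le_trans ?_ ((k_sub_card GK.s3_els GK.S3ls GK.s3_levels GK.s3_gens).trans
      (Subgroup.card_le_of_le (sub_le_of_same (ws := GK.S3ws) (by decide +kernel))))
    exact (by decide +kernel : 5040 ≤ (GK.S3ls.map WLevel.len).prod)
  · refine le_trans ?_ ((k_sub_card GK.s4_els GK.S4ls GK.s4_levels GK.s4_gens).trans
      (Subgroup.card_le_of_le (sub_le_of_same (ws := GK.S4ws) (by decide +kernel))))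
    exact (by decide +kernel : 1440 ≤ (GK.S4ls.map WLevel.len).prod)
  · refine le_trans ?_ ((k_sub_card GK.s5_els GK.S5ls GK.s5_levels GK.s5_gens).trans
      (Subgroup.card_le_of_le (sub_le_of_same (ws := GK.S5ws) (by decide +kernel))))
    exact (by decide +kernel : 500 ≤ (GK.S5ls.map WLevel.len).prod)
  · refine le_trans ?_ ((k_sub_card GK.s6_els GK.S6ls GK.s6_levels GK.s6_gens).trans
      (Subgroup.card_le_of_le (sub_le_of_same (ws := GK.S6ws) (by decide +kernel))))
    exact (by decide +kernel : 240 ≤ (GK.S6ls.map WLevel.len).prod)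
  · refine le_trans ?_ ((k_sub_card GK.s7_els GK.S7ls GK.s7_levels GK.s7_gens).trans
      (Subgroup.card_le_of_le (sub_le_of_same (ws := GK.S7ws) (by decide +kernel))))
    exact (by decide +kernel : 30720 ≤ (GK.S7ls.map WLevel.len).prod)
  · refine le_trans ?_ ((k_sub_card GK.s8_els GK.S8ls GK.s8_levels GK.s8_gens).trans
      (Subgroup.card_le_of_le (sub_le_of_same (ws := GK.S8ws) (by decide +kernel))))
    exact (by decide +kernel : 640 ≤ (GK.S8ls.map WLevel.len).prod)

theorem stab_card {k : Nat} (hk : k < AD.A.orbs.length) :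
    Nat.card (permsK.sub (AD.A.orb k).gens) = orders.getD k 0 :=
  le_antisymm (stab_upper hk).2 (stab_lower k hk)

/-- the data with its meaning -/
noncomputable def actBase : ActBase AD.A GrpK where
  M := permsK
  fin := gk_finite
  pt_lt := (by decide +kernel : AD.A.pt < GK.P.n)
  flat := AD.flat_ok
  orb_ok := orb_all_ok
  point_ok := by
    rw [len_orbs]
    intro k hk c hc
    interval_cases k
    · have := allBelow_spec AD.points0_ok c hc
      rwa [show Nat.add 0 c = c from Nat.zero_add c] at this
    · have := allBelow_spec AD.points1_ok c hc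
      rwa [show Nat.add 0 c = c from Nat.zero_add c] at this
    · have := allBelow_spec AD.points2_ok c hc
      rwa [show Nat.add 0 c = c from Nat.zero_add c] at this
    · have := allBelow_spec AD.points3_ok c hc
      rwa [show Nat.add 0 c = c from Nat.zero_add c] at this
    · have := allBelow_spec AD.points4_ok c hc
      rwa [show Nat.add 0 c = c from Nat.zero_add c] at this
    · have := allBelow_spec AD.points5_ok c hc
      rwa [show Nat.add 0 c = c from Nat.zero_add c] at this
    · have := allBelow_spec AD.points6_ok c hc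
      rwa [show Nat.add 0 c = c from Nat.zero_add c] at this
    · have := allBelow_spec AD.points7_ok c hc
      rwa [show Nat.add 0 c = c from Nat.zero_add c] at this
    · have := allBelow_spec AD.points8_ok c hc
      rwa [show Nat.add 0 c = c from Nat.zero_add c] at this
  root_ok := by
    rw [len_orbs]
    intro k hk a ha
    interval_cases k
    · have hlen : (AD.A.orb 0).roots.length = 1 := by decide +kernel
      have := allBelow_spec AD.roots0_ok a (hlen ▸ ha)
      rwa [show Nat.add 0 a = a from Nat.zero_add a] at this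
    · have hlen : (AD.A.orb 1).roots.length = 11 := by decide +kernel
      have := allBelow_spec AD.roots1_ok a (hlen ▸ ha)
      rwa [show Nat.add 0 a = a from Nat.zero_add a] at this
    · have hlen : (AD.A.orb 2).roots.length = 4 := by decide +kernel
      have := allBelow_spec AD.roots2_ok a (hlen ▸ ha)
      rwa [show Nat.add 0 a = a from Nat.zero_add a] at this
    · have hlen : (AD.A.orb 3).roots.length = 14 := by decide +kernel
      have := allBelow_spec AD.roots3_ok a (hlen ▸ ha)
      rwa [show Nat.add 0 a = a from Nat.zero_add a] at this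
    · have hlen : (AD.A.orb 4).roots.length = 16 := by decide +kernel
      have := allBelow_spec AD.roots4_ok a (hlen ▸ ha)
      rwa [show Nat.add 0 a = a from Nat.zero_add a] at this
    · have hlen : (AD.A.orb 5).roots.length = 16 := by decide +kernel
      have := allBelow_spec AD.roots5_ok a (hlen ▸ ha)
      rwa [show Nat.add 0 a = a from Nat.zero_add a] at this
    · have hlen : (AD.A.orb 6).roots.length = 30 := by decide +kernel
      have := allBelow_spec AD.roots6_ok a (hlen ▸ ha)
      rwa [show Nat.add 0 a = a from Nat.zero_add a] at this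
    · have hlen : (AD.A.orb 7).roots.length = 2 := by decide +kernel
      have := allBelow_spec AD.roots7_ok a (hlen ▸ ha)
      rwa [show Nat.add 0 a = a from Nat.zero_add a] at this
    · have hlen : (AD.A.orb 8).roots.length = 7 := by decide +kernel
      have := allBelow_spec AD.roots8_ok a (hlen ▸ ha)
      rwa [show Nat.add 0 a = a from Nat.zero_add a] at this
  tup_card := fun k hk => (stab_upper hk).1.trans (stab_lower k hk)

theorem stab_ok : ∀ k < AD.A.orbs.length, AD.A.okStab k (orders.getD k 0) = true := by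
  rw [len_orbs]
  intro k hk
  interval_cases k
  · exact AD.stab0_ok
  · exact AD.stab1_ok
  · exact AD.stab2_ok
  · exact AD.stab3_ok
  · exact AD.stab4_ok
  · exact AD.stab5_ok
  · exact AD.stab6_ok
  · exact AD.stab7_ok
  · exact AD.stab8_ok

/-- the action -/
noncomputable def actK : ActModel AD.A GrpK where
  toActBase := actBase
  stab_gen := fun _ hk =>
    actBase.stab_gen_of hk (stab_upper hk).2 (stab_ok _ hk)

end CfsgLib.Spor.HN
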