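import Cfsg.Agent.Lib.Spor.HN.ActData
import Cfsg.Agent.Lib.Spor.HN.ActHints
import Cfsg.Agent.Lib.DCE.ActRel

/-!
Short relation checks (generated data).
-/

namespace CfsgLib.Spor.HN.AD

open CfsgLib.PresCert CfsgLib.DCE

theorem t50_ok : A.okBacks [6, 6, 6, 6, 6] T1 t5h0 0 0 1 = true := by decide +kernel

theorem t51_ok : A.okBacks [6, 6, 6, 6, 6] T1 t5h1 1 0 11 = true := by decide +kernel

theorem t52_ok : A.okBacks [6, 6, 6, 6, 6] T1 t5h2 2 0 4 = true := by decide +kernel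

theorem t53_ok : A.okBacks [6, 6, 6, 6, 6] T1 t5h3 3 0 14 = true := by decide +kernel

theorem t54_ok : A.okBacks [6, 6, 6, 6, 6] T1 t5h4 4 0 16 = true := by decide +kernel

theorem t55_ok : A.okBacks [6, 6, 6, 6, 6] T1 t5h5 5 0 16 = true := by decide +kernel

theorem t56_ok : A.okBacks [6, 6, 6, 6, 6] T1 t5h6 6 0 30 = true := by decide +kernel

theorem t57_ok : A.okBacks [6, 6, 6, 6, 6] T1 t5h7 7 0 2 = true := by decide +kernel

theorem t58_ok : A.okBacks [6, 6, 6, 6, 6] T1 t5h8 8 0 7 = true := by decide +kernel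

theorem xt0_ok : A.okBacks [1, 6, 0, 6, 6] T1 xth0 0 0 1 = true := by decide +kernel

theorem xt1_ok : A.okBacks [1, 6, 0, 6, 6] T1 xth1 1 0 11 = true := by decide +kernel

theorem xt2_ok : A.okBacks [1, 6, 0, 6, 6] T1 xth2 2 0 4 = true := by decide +kernel

theorem xt3_ok : A.okBacks [1, 6, 0, 6, 6] T1 xth3 3 0 14 = true := by decide +kernel

theorem xt4_ok : A.okBacks [1, 6, 0, 6, 6] T1 xth4 4 0 16 = true := by decide +kernel

theorem xt5_ok : A.okBacks [1, 6, 0, 6, 6] T1 xth5 5 0 16 = true := by decide +kernel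

theorem xt6_ok : A.okBacks [1, 6, 0, 6, 6] T1 xth6 6 0 30 = true := by decide +kernel

theorem xt7_ok : A.okBacks [1, 6, 0, 6, 6] T1 xth7 7 0 2 = true := by decide +kernel

theorem xt8_ok : A.okBacks [1, 6, 0, 6, 6] T1 xth8 8 0 7 = true := by decide +kernel

theorem cover_ok : A.okCover [[2],
  [3],
  [1, 2, 0],
  [1, 3, 0]] [4] [0, 3, 7, 8, 16] Ts cov = true := by decide +kernel

end CfsgLib.Spor.HN.AD
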