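import Cfsg.Agent.Lib.Spor.HN.ActData
import Cfsg.Agent.Lib.Spor.HN.ActHints
import Cfsg.Agent.Lib.DCE.ActRel

/-!
Checks of the long relation (generated data).
-/

namespace CfsgLib.Spor.HN.AD

open CfsgLib.PresCert CfsgLib.DCE

theorem zt5_ok : A.okBacks [4, 6, 4, 6, 4, 6] Ts zth5 5 0 16 = true := by decide +kernel


end CfsgLib.Spor.HN.AD
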