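import Cfsg.Agent.Lib.Spor.HN.GKData

/-!
Kernel checks: facts about the double cosets in `HN`.
-/

namespace CfsgLib.Spor.HN.GK

open CfsgLib.PresCert CfsgLib.DCE

theorem facts_30 : S.okRange facts 30 15 = true := by decide +kernel

theorem facts_45 : S.okRange facts 45 15 = true := by decide +kernel

end CfsgLib.Spor.HN.GK
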