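import Cfsg.Agent.Lib.Spor.HN.GKData

/-!
Kernel checks: closed double cosets in `HN`.
-/

namespace CfsgLib.Spor.HN.GK

open CfsgLib.PresCert CfsgLib.DCE

theorem live0_ok : S.okLive facts live0 = true := by decide +kernel

end CfsgLib.Spor.HN.GK
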