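import Cfsg.Agent.Lib.Spor.HN.Rels
import Cfsg.Prelude.Def_Spor_HN

/-!
The defining relations of the presented Harada-Norton group.
-/

namespace CfsgLib.Spor.HN

open CfsgLib.DCE Cfsg.Spor

/-- the presented Harada-Norton group -/
abbrev GHN : Type := Cfsg.Spor.HN

/-- the generator with the given number -/
def hgen : Fin 4 → GHN
  | 0 => PresentedGroup.of HN.Gen.x
  | 1 => PresentedGroup.of HN.Gen.y
  | 2 => PresentedGroup.of HN.Gen.z
  | 3 => PresentedGroup.of HN.Gen.t

theorem extra_rel {r : FreeGroup HN.Gen} (h : r ∈ HN.extra) :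
    PresentedGroup.mk (coxRelators HN.edges ∪ {r | r ∈ HN.extra}) r = (1 : GHN) :=
  PresentedGroup.one_of_mem (Or.inr h)

/-- the numeric relators on `x, y, z, t` -/
def RG : List (List Nat) :=
  RK ++ [[6, 6, 6, 6, 6], [1, 6, 0, 6, 6], [7, 3, 6, 2], [4, 6, 4, 6, 4, 6]]

/-- the free generator with the given number -/
def fgen : Fin 4 → FreeGroup HN.Gen
  | 0 => HN.x
  | 1 => HN.y
  | 2 => HN.z
  | 3 => HN.t

theorem mk_wv (w : List Nat) :
    PresentedGroup.mk (coxRelators HN.edges ∪ {r | r ∈ HN.extra}) (wv fgen w) = wv hgen w := by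
  rw [map_wv]
  congr 1
  funext k
  fin_cases k <;> rfl

theorem rel_one : ∀ w ∈ RG, wv hgen w = 1 := by
  have h := fun r (hr : r ∈ HN.extra) => extra_rel hr
  intro w hw
  rw [← mk_wv]
  simp only [RG, RK, List.cons_append, List.nil_append, List.mem_cons, List.not_mem_nil,
    or_false] at hw
  simp only [HN.extra, List.mem_cons, List.not_mem_nil, or_false, forall_eq_or_imp,
    forall_eq] at h
  obtain ⟨h1, h2, h3, h4, h5, h6, h7, h8, h9, h10, h11, h12, h13, h14⟩ := h
  rcases hw with rfl | rfl | rfl | rfl | rfl | rfl | rfl |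
      rfl | rfl | rfl | rfl | rfl | rfl | rfl
  · refine (congrArg _ ?_).trans h1
    simp [wv, lv, fgen, pow_succ, mul_assoc]
  · refine (congrArg _ ?_).trans h2
    simp [wv, lv, fgen, pow_succ, mul_assoc]
  · refine (congrArg _ ?_).trans h3
    simp [wv, lv, fgen, pow_succ, mul_assoc]
  · refine (congrArg _ ?_).trans h4
    simp [wv, lv, fgen, pow_succ, mul_assoc]
  · refine (congrArg _ ?_).trans h5
    simp [wv, lv, fgen, pow_succ, mul_assoc]
  · refine (congrArg _ ?_).trans h6
    simp [wv, lv, fgen, pow_succ, mul_assoc]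
  · refine (congrArg _ ?_).trans h7
    simp [wv, lv, fgen, pow_succ, mul_assoc]
  · refine (congrArg _ ?_).trans h8
    simp [wv, lv, fgen, pow_succ, mul_assoc]
  · refine (congrArg _ ?_).trans h9
    simp [wv, lv, fgen, pow_succ, mul_assoc]
  · refine (congrArg _ ?_).trans h10
    simp [wv, lv, fgen, pow_succ, mul_assoc]
  · refine (congrArg _ ?_).trans h11
    simp [wv, lv, fgen, pow_succ, mul_assoc]
  · refine (congrArg _ ?_).trans h12
    simp [wv, lv, fgen, pow_succ, mul_assoc]
  · refine (congrArg _ ?_).trans h13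
    simp [wv, lv, fgen, pow_succ, mul_assoc]
  · refine (congrArg _ ?_).trans h14
    simp [wv, lv, fgen, pow_succ, mul_assoc]

end CfsgLib.Spor.HN
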