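import Cfsg.Agent.Lib.Spor.HN.KFaithful
import Cfsg.Agent.Lib.Spor.HN.Relations
import Cfsg.Agent.Lib.Spor.HN.GKFacts
import Cfsg.Agent.Lib.Spor.HN.GKFacts0
import Cfsg.Agent.Lib.Spor.HN.GKFacts1
import Cfsg.Agent.Lib.Spor.HN.GKFacts2
import Cfsg.Agent.Lib.Spor.HN.GKFacts3
import Cfsg.Agent.Lib.Spor.HN.GKFacts4
import Cfsg.Agent.Lib.Spor.HN.GKFacts5
import Cfsg.Agent.Lib.Spor.HN.GKFacts6
import Cfsg.Agent.Lib.Spor.HN.GKLive0
import Cfsg.Agent.Lib.Spor.HN.GKLive1
import Cfsg.Agent.Lib.Spor.HN.GKLive2
import Cfsg.Agent.Lib.Spor.HN.GKLive3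
import Cfsg.Agent.Lib.Spor.HN.GKLive4

/-!
The subgroup on `x, y, z` of the presented Harada-Norton group has index at most 1539000, and the
group is finite.
-/

namespace CfsgLib.Spor.HN

open CfsgLib.PresCert CfsgLib.DCE

private theorem sub_k : (RK.all fun w => RG.contains (subst [[0], [2], [4]] w)) = true := by
  decide +kernel

/-- the group on `x, y, z` maps into the Harada-Norton group -/
noncomputable def psiK : GrpK →* GHN :=
  Grp.lift (fun k : Fin 3 => wv hgen ([[0], [2], [4]].getD k [])) fun w hw => by
    rw [wv_subst (m := 3) hgen (s := [[0], [2], [4]]) rfl w]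
    have := List.all_eq_true.1 sub_k w hw
    exact rel_one _ (List.contains_iff_mem.1 this)

theorem psiK_gen (k : Fin 3) : psiK (Grp.gen k) = hgen k.castSucc := by
  fin_cases k <;> simp [psiK, wv, lv]

theorem psiK_val (w : List Nat) (hw : ∀ x ∈ w, x < 6) :
    psiK (permsK.val w) = wv hgen w := by
  rw [Perms.val, map_wv]
  induction w with
  | nil => rfl
  | cons x w ih =>
    obtain ⟨hx, hw'⟩ := List.forall_mem_cons.1 hw
    rw [wv_cons, wv_cons, ih hw']
    congr 1
    show lv (fun k => psiK (Grp.gen k)) x = _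
    interval_cases x <;> simp [lv, psiK_gen]

/-- the meaning of the letters -/
noncomputable def genG (x : Nat) : GHN :=
  if x < 6 then psiK (permsK.val [x])
  else (psiK (permsK.val (GK.S.letE x).2))⁻¹ * hgen 3 * psiK (permsK.val (GK.S.letE x).2)

theorem ht5 : hgen 3 * hgen 3 * hgen 3 * hgen 3 * hgen 3 = 1 := by
  have := rel_one [6, 6, 6, 6, 6] (by decide)
  simpa [wv, lv, mul_assoc] using this

theorem hxt : (hgen 0)⁻¹ * hgen 3 * hgen 0 = (hgen 3 * hgen 3)⁻¹ := by
  have := rel_one [1, 6, 0, 6, 6] (by decide)
  apply eq_inv_of_mul_eq_one_left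
  simpa [wv, lv, mul_assoc] using this

theorem hty : hgen 1 * hgen 3 = hgen 3 * hgen 1 := by
  have h := rel_one [7, 3, 6, 2] (by decide)
  have h' : (hgen 3)⁻¹ * (hgen 1)⁻¹ * hgen 3 * hgen 1 = 1 := by
    simpa [wv, lv, mul_assoc] using h
  calc hgen 1 * hgen 3 = hgen 1 * hgen 3 * ((hgen 3)⁻¹ * (hgen 1)⁻¹ * hgen 3 * hgen 1) := by
        rw [h', mul_one]
    _ = hgen 3 * hgen 1 := by group

theorem genG_lv : ∀ x, x < 8 → genG x = lv hgen x := by
  intro x hx
  by_cases h6 : x < 6
  · rw [genG, if_pos h6, psiK_val [x] (by simpa using h6)]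
    simp [wv]
  · rw [genG, if_neg h6]
    interval_cases x
    · have : (GK.S.letE 6).2 = [] := by decide +kernel
      simp [this, psiK_val, wv, lv]
    · have : (GK.S.letE 7).2 = [0, 0] := by decide +kernel
      rw [this, psiK_val _ (by simp)]
      show (wv hgen [0, 0])⁻¹ * hgen 3 * wv hgen [0, 0] = (hgen 3)⁻¹
      simp only [wv, List.map_cons, List.map_nil, List.prod_cons, List.prod_nil, mul_one]
      simp only [lv]
      have h5 := ht5
      have hx' := hxt
      generalize hgen 3 = t at h5 hx'
      show ((hgen 0) * (hgen 0))⁻¹ * t * (hgen 0 * hgen 0) = t⁻¹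
      generalize hgen 0 = u at hx'
      calc (u * u)⁻¹ * t * (u * u) = u⁻¹ * (u⁻¹ * t * u) * u := by group
        _ = u⁻¹ * (t * t)⁻¹ * u := by rw [hx']
        _ = ((u⁻¹ * t * u) * (u⁻¹ * t * u))⁻¹ := by group
        _ = ((t * t)⁻¹ * (t * t)⁻¹)⁻¹ := by rw [hx']
        _ = t * t * t * t := by simp [mul_assoc]
        _ = t⁻¹ := eq_inv_of_mul_eq_one_left h5

/-- the relators of the enumeration are relators of the group or their inverses -/
noncomputable def okKnownG : Bool :=
  GK.S.rels.all fun r => (r.all fun x => Nat.blt x 8) &&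
    (r == [] || r == [6, 7] || r == [7, 6] || RG.any fun k => k == r || k == ivw r)

theorem knownG_ok : okKnownG = true := by decide +kernel

theorem edgesG_len : GK.S.edges.length = 1 := by decide +kernel

/-- the model of the enumeration -/
noncomputable def modelGK : Model GK.S GrpK GHN where
  M := permsK
  inj := k_faithful.1
  f := psiK
  T _ := hgen 3
  comm := by
    intro e he k hk
    rw [edgesG_len] at he
    obtain rfl : e = 0 := by omega
    have hk' : k < 2 := hk
    interval_cases k
    · show psiK (permsK.val [2]) * hgen 3 = hgen 3 * psiK (permsK.val [2])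
      rw [psiK_val _ (by simp)]
      simpa [wv, lv] using hty
    · show psiK (permsK.val [1, 2, 0]) * hgen 3 = hgen 3 * psiK (permsK.val [1, 2, 0])
      rw [psiK_val _ (by simp)]
      simp only [wv, List.map_cons, List.map_nil, List.prod_cons, List.prod_nil, mul_one]
      show (hgen 0)⁻¹ * (hgen 1 * hgen 0) * hgen 3 = hgen 3 * ((hgen 0)⁻¹ * (hgen 1 * hgen 0))
      have c : Commute (hgen 1) (hgen 3) := hty
      have hx' := hxt
      generalize hgen 0 = u at hx'
      generalize hgen 1 = v at c
      have h5 := ht5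
      generalize hgen 3 = t at c hx' h5
      have c2 : Commute (u⁻¹ * v * u) (u⁻¹ * t * u) := by
        show _ = _
        calc u⁻¹ * v * u * (u⁻¹ * t * u) = u⁻¹ * (v * t) * u := by group
          _ = u⁻¹ * (t * v) * u := by rw [c.eq]
          _ = _ := by group
      rw [hx', Commute.inv_right_iff] at c2
      have c4 := c2.mul_right c2
      rw [show t * t * (t * t) = t⁻¹ from eq_inv_of_mul_eq_one_left
        (by rw [← h5]; group), Commute.inv_right_iff] at c4
      simpa [mul_assoc] using c4.eq
  gen' := genG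
  gen'_lt := by
    intro x hx
    have : x < 6 := hx
    rw [genG, if_pos this]; rfl
  gen'_let := by
    intro x hx _
    have : ¬x < 6 := Nat.not_lt.2 hx
    rw [genG, if_neg this]; rfl
  gen'_inv := by
    intro x hx
    have hx' : x < 8 := hx
    rw [genG_lv x hx', genG_lv (GK.S.linv.getD x 0) (by interval_cases x <;> decide)]
    rw [← lv_xor]
    interval_cases x <;> rfl
  rels_eq := by
    intro r hr
    have h := List.all_eq_true.1 knownG_ok r hr
    simp only [Bool.and_eq_true, List.all_eq_true, Nat.blt_eq, Bool.or_eq_true, beq_iff_eq,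
      List.any_eq_true] at h
    obtain ⟨hlt, h⟩ := h
    rw [show r.map genG = r.map (lv hgen) from List.map_congr_left fun x hx => genG_lv x (hlt x hx)]
    show wv hgen r = 1
    rcases h with ((rfl | rfl) | rfl) | ⟨k, hk, rfl | e⟩
    · rfl
    · simp [wv, lv]
    · simp [wv, lv]
    · exact rel_one _ hk
    · rw [← inv_eq_one, ← wv_ivw, ← e]; exact rel_one _ hk
  gen_top := gen_top_k
  top := by
    refine top_le_iff.1 ((PresentedGroup.closure_range_of _).symm.trans_le ?_)
    refine Subgroup.closure_mono ?_
    rintro _ ⟨k, rfl⟩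
    cases k
    · exact Or.inl ⟨Grp.gen 0, psiK_gen 0⟩
    · exact Or.inl ⟨Grp.gen 1, psiK_gen 1⟩
    · exact Or.inl ⟨Grp.gen 2, psiK_gen 2⟩
    · exact Or.inr ⟨0, by rw [edgesG_len]; exact Nat.one_pos, rfl⟩

theorem gk_edgeStab : EdgeStab modelGK := by
  refine EdgeStab.of_levels (N := modelGK) (fun _ => ⟨GK.E0L0.base, [], 0, .leaf 0, .leaf 0⟩)
    (fun _ => GK.V0ws) (fun e he => ?_) (fun e he => ?_) fun _ _ => k_edgeStab
  all_goals rw [edgesG_len] at he; obtain rfl : e = 0 := by omega
  · decide +kernel
  · decide +kernel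

theorem gk_facts_ok : ∀ n < GK.facts.length, GK.S.okFact GK.facts n = true := by
  intro n hn
  have h181 : GK.facts.length = 181 := by decide +kernel
  rw [h181] at hn
  rcases lt_or_ge n 15 with h | h
  · exact okRange_get GK.facts_0 n (Nat.zero_le _) (by omega)
  rcases lt_or_ge n 30 with h15 | h15
  · exact okRange_get GK.facts_15 n (by omega) (by omega)
  rcases lt_or_ge n 45 with h30 | h30
  · exact okRange_get GK.facts_30 n (by omega) (by omega)
  rcases lt_or_ge n 60 with h45 | h45
  · exact okRange_get GK.facts_45 n (by omega) (by omega)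
  rcases lt_or_ge n 75 with h60 | h60
  · exact okRange_get GK.facts_60 n (by omega) (by omega)
  rcases lt_or_ge n 90 with h75 | h75
  · exact okRange_get GK.facts_75 n (by omega) (by omega)
  rcases lt_or_ge n 105 with h90 | h90
  · exact okRange_get GK.facts_90 n (by omega) (by omega)
  rcases lt_or_ge n 120 with h105 | h105
  · exact okRange_get GK.facts_105 n (by omega) (by omega)
  rcases lt_or_ge n 135 with h120 | h120
  · exact okRange_get GK.facts_120 n (by omega) (by omega)
  rcases lt_or_ge n 150 with h135 | h135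
  · exact okRange_get GK.facts_135 n (by omega) (by omega)
  rcases lt_or_ge n 165 with h150 | h150
  · exact okRange_get GK.facts_150 n (by omega) (by omega)
  rcases lt_or_ge n 180 with h165 | h165
  · exact okRange_get GK.facts_165 n (by omega) (by omega)
  exact okRange_get GK.facts_180 n (by omega) (by omega)

theorem psiK_index_le : psiK.range.index ≤ 1539000 ∧ psiK.range.index ≠ 0 := by
  obtain ⟨hfin, -⟩ := gk_bound
  have hc := k_faithful.2
  have hlive : ∀ L ∈ GK.lives, GK.S.okLive GK.facts L = true := by
    intro L hL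
    simp only [GK.lives, List.mem_cons, List.not_mem_nil, or_false] at hL
    rcases hL with rfl | rfl | rfl | rfl | rfl | rfl | rfl | rfl | rfl
    · exact GK.live0_ok
    · exact GK.live1_ok
    · exact GK.live2_ok
    · exact GK.live3_ok
    · exact GK.live4_ok
    · exact GK.live5_ok
    · exact GK.live6_ok
    · exact GK.live7_ok
    · exact GK.live8_ok
  have h := index_le modelGK GK.setup_ok gk_facts_ok gk_edgeStab hlive GK.cover_ok
    (fun L => [1, 1408, 2200, 35200, 123200, 354816, 739200, 5775, 277200].getD (GK.lives.findIdx fun L' => Nat.beq L'.i L.i) 0) (by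
      intro L hL
      simp only [GK.lives, List.mem_cons, List.not_mem_nil, or_false] at hL
      rcases hL with rfl | rfl | rfl | rfl | rfl | rfl | rfl | rfl | rfl
      · exact modelGK.stab_index GK.s0_pairs
          (le_trans (by decide +kernel : 177408000 ≤ (GK.S0ls.map WLevel.len).prod)
            (k_sub_card GK.s0_els GK.S0ls GK.s0_levels GK.s0_gens))
          (by rw [hc]; decide +kernel)
      · exact modelGK.stab_index GK.s1_pairs
          (le_trans (by decide +kernel : 126000 ≤ (GK.S1ls.map WLevel.len).prod)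
            (k_sub_card GK.s1_els GK.S1ls GK.s1_levels GK.s1_gens))
          (by rw [hc]; decide +kernel)
      · exact modelGK.stab_index GK.s2_pairs
          (le_trans (by decide +kernel : 80640 ≤ (GK.S2ls.map WLevel.len).prod)
            (k_sub_card GK.s2_els GK.S2ls GK.s2_levels GK.s2_gens))
          (by rw [hc]; decide +kernel)
      · exact modelGK.stab_index GK.s3_pairs
          (le_trans (by decide +kernel : 5040 ≤ (GK.S3ls.map WLevel.len).prod)
            (k_sub_card GK.s3_els GK.S3ls GK.s3_levels GK.s3_gens))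
          (by rw [hc]; decide +kernel)
      · exact modelGK.stab_index GK.s4_pairs
          (le_trans (by decide +kernel : 1440 ≤ (GK.S4ls.map WLevel.len).prod)
            (k_sub_card GK.s4_els GK.S4ls GK.s4_levels GK.s4_gens))
          (by rw [hc]; decide +kernel)
      · exact modelGK.stab_index GK.s5_pairs
          (le_trans (by decide +kernel : 500 ≤ (GK.S5ls.map WLevel.len).prod)
            (k_sub_card GK.s5_els GK.S5ls GK.s5_levels GK.s5_gens))
          (by rw [hc]; decide +kernel)
      · exact modelGK.stab_index GK.s6_pairs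
          (le_trans (by decide +kernel : 240 ≤ (GK.S6ls.map WLevel.len).prod)
            (k_sub_card GK.s6_els GK.S6ls GK.s6_levels GK.s6_gens))
          (by rw [hc]; decide +kernel)
      · exact modelGK.stab_index GK.s7_pairs
          (le_trans (by decide +kernel : 30720 ≤ (GK.S7ls.map WLevel.len).prod)
            (k_sub_card GK.s7_els GK.S7ls GK.s7_levels GK.s7_gens))
          (by rw [hc]; decide +kernel)
      · exact modelGK.stab_index GK.s8_pairs
          (le_trans (by decide +kernel : 640 ≤ (GK.S8ls.map WLevel.len).prod)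
            (k_sub_card GK.s8_els GK.S8ls GK.s8_levels GK.s8_gens))
          (by rw [hc]; decide +kernel)
)
  exact ⟨h.1.trans_eq (by decide +kernel), h.2⟩

theorem ghn_bound : Finite GHN ∧ Nat.card GHN ≤ 1539000 * 177408000 := by
  obtain ⟨hi, hi0⟩ := psiK_index_le
  obtain ⟨hfin, -⟩ := gk_bound
  have hr : Nat.card psiK.range ≤ 177408000 :=
    (Nat.card_le_card_of_surjective _ psiK.rangeRestrict_surjective).trans k_faithful.2.le
  have : Finite psiK.range := Finite.of_surjective _ psiK.rangeRestrict_surjective
  have e := psiK.range.card_mul_index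
  have hne : Nat.card GHN ≠ 0 := by
    rw [← e]; exact Nat.mul_ne_zero (Nat.card_pos (α := psiK.range)).ne' hi0
  refine ⟨Nat.finite_of_card_ne_zero hne, ?_⟩
  rw [← e, mul_comm]
  exact Nat.mul_le_mul hi hr

end CfsgLib.Spor.HN
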