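import Cfsg.Agent.Lib.Spor.HN.ActCore
import Cfsg.Agent.Lib.Spor.HN.Upper
import Cfsg.Agent.Lib.Spor.HN.ActRelA
import Cfsg.Agent.Lib.Spor.HN.ActRelZ0
import Cfsg.Agent.Lib.Spor.HN.ActRelZ1
import Cfsg.Agent.Lib.Spor.HN.ActRelZ2
import Cfsg.Agent.Lib.Spor.HN.ActRelZ3
import Cfsg.Agent.Lib.Spor.HN.ActRelZ4
import Cfsg.Agent.Lib.Spor.HN.ActRelZ5

/-!
The presented Harada-Norton group acts transitively on 1539000 points, so the subgroup on `x, y, z`
has that index and the group has order 273030912000000.
-/

namespace CfsgLib.Spor.HN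

open CfsgLib.PresCert CfsgLib.DCE

/-- the 1539000 points -/
abbrev Omega : Type := actK.Omega

/-- the action of the group on `x, y, z` -/
noncomputable def permHom : GrpK →* Equiv.Perm Omega := MulAction.toPermHom GrpK Omega

theorem permHom_inv_apply (g : GrpK) (z : Omega) : (permHom g)⁻¹ z = g⁻¹ • z := by
  rw [← map_inv]; rfl

theorem g_eq : AD.A.P.g = 6 := by decide +kernel

theorem pt_zero : AD.A.pt = 0 := by decide +kernel

theorem step_T (z : Omega) : actK.step z 6 = actK.tau z := by
  exact actK.step_T z (by rw [g_eq]; omega)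

theorem step_gen (z : Omega) {x : Nat} (h : x < 6) :
    actK.step z x = (permsK.val [x])⁻¹ • z := by
  rw [ActModel.step, if_pos (by rw [g_eq]; exact h)]
  rfl

/-- the stabiliser of the special point -/
noncomputable def Ufix : Subgroup GrpK := permsK.fixIn ⊤ [0]

theorem to_fix {u : GrpK} (hu : actK.M.act u actK.special = actK.special) : u ∈ Ufix := by
  refine ⟨trivial, fun i hi => ?_⟩
  obtain rfl : i = actK.special := Fin.ext ((List.mem_singleton.1 hi).trans pt_zero.symm)
  exact hu

theorem of_fix {u : GrpK} (hu : u ∈ Ufix) : actK.M.act u actK.special = actK.special :=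
  hu.2 actK.special (List.mem_singleton.2 pt_zero)

theorem fixed_mem {u : GrpK} (hu : u ∈ Ufix) : u ∈ permsK.sub GK.V0ws := by
  refine k_edgeStab u fun i hi => ?_
  have h0 : GK.E0L0.base = 0 := by decide +kernel
  exact hu.2 i (List.mem_singleton.2 (hi.trans h0))

theorem conj_x_fixed {u : GrpK} (hu : u ∈ Ufix) :
    permsK.val [0] * u * (permsK.val [0])⁻¹ ∈ Ufix := by
  have hS : permsK.sub GK.V0ws ≤ Ufix.comap (MulAut.conj (permsK.val [0])).toMonoidHom := by
    rw [Perms.sub, Subgroup.closure_le]
    rintro _ ⟨w, hw, rfl⟩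
    have hall : (GK.V0ws.all fun w => (([0] ++ w) ++ [1]).all (fun x => Nat.blt x GK.P.g) &&
        Nat.beq (GK.P.app (([0] ++ w) ++ [1]) 0) 0) = true := by decide +kernel
    have := List.all_eq_true.1 hall w hw
    simp only [Bool.and_eq_true, List.all_eq_true, Nat.blt_eq, Nat.beq_eq] at this
    obtain ⟨hl, he⟩ := this
    have e : permsK.val (([0] ++ w) ++ [1]) =
        permsK.val [0] * permsK.val w * (permsK.val [0])⁻¹ := by
      rw [permsK.val_append, permsK.val_append, ← permsK.val_ivw]
      rfl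
    show (MulAut.conj (permsK.val [0])) (permsK.val w) ∈ Ufix
    rw [MulAut.conj_apply, ← e]
    refine ⟨trivial, fun i hi => Fin.ext ?_⟩
    rw [← permsK.app_eq _ hl i, List.mem_singleton.1 hi]
    exact he
  exact hS (fixed_mem hu)

/-- the relator `t⁵` holds -/
theorem tau_five : ∀ z : Omega, actK.run [6, 6, 6, 6, 6] z = z := by
  refine actK.run_fixed (Ts := AD.T1) {u | actK.M.act u actK.special = actK.special} ?_ ?_ ?_
  · intro u hu z
    refine actK.run_smul hu _ (fun x hx h => absurd h ?_) z
    rw [g_eq]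
    simp at hx
    omega
  · intro u hu
    exact ⟨0, by decide, by simpa [AD.T1, Perms.val, wv] using hu⟩
  · intro k a ha i hi
    have hk : (k : Nat) < 9 := len_orbs ▸ k.2
    exact by
      obtain ⟨k, hk0⟩ := k
      interval_cases k
      · have hlen : (AD.A.orb 0).roots.length = 1 := by decide +kernel
        have ha' : a < 1 :=
          lt_of_lt_of_eq (show a < (AD.A.orb 0).roots.length from ha) hlen
        exact actK.backs_of_ok ⟨0, hk0⟩ AD.t50_ok a (Nat.zero_le _) (by omega) i hi
      · have hlen : (AD.A.orb 1).roots.length = 11 := by decide +kernel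
        have ha' : a < 11 :=
          lt_of_lt_of_eq (show a < (AD.A.orb 1).roots.length from ha) hlen
        exact actK.backs_of_ok ⟨1, hk0⟩ AD.t51_ok a (Nat.zero_le _) (by omega) i hi
      · have hlen : (AD.A.orb 2).roots.length = 4 := by decide +kernel
        have ha' : a < 4 :=
          lt_of_lt_of_eq (show a < (AD.A.orb 2).roots.length from ha) hlen
        exact actK.backs_of_ok ⟨2, hk0⟩ AD.t52_ok a (Nat.zero_le _) (by omega) i hi
      · have hlen : (AD.A.orb 3).roots.length = 14 := by decide +kernel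
        have ha' : a < 14 :=
          lt_of_lt_of_eq (show a < (AD.A.orb 3).roots.length from ha) hlen
        exact actK.backs_of_ok ⟨3, hk0⟩ AD.t53_ok a (Nat.zero_le _) (by omega) i hi
      · have hlen : (AD.A.orb 4).roots.length = 16 := by decide +kernel
        have ha' : a < 16 :=
          lt_of_lt_of_eq (show a < (AD.A.orb 4).roots.length from ha) hlen
        exact actK.backs_of_ok ⟨4, hk0⟩ AD.t54_ok a (Nat.zero_le _) (by omega) i hi
      · have hlen : (AD.A.orb 5).roots.length = 16 := by decide +kernel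
        have ha' : a < 16 :=
          lt_of_lt_of_eq (show a < (AD.A.orb 5).roots.length from ha) hlen
        exact actK.backs_of_ok ⟨5, hk0⟩ AD.t55_ok a (Nat.zero_le _) (by omega) i hi
      · have hlen : (AD.A.orb 6).roots.length = 30 := by decide +kernel
        have ha' : a < 30 :=
          lt_of_lt_of_eq (show a < (AD.A.orb 6).roots.length from ha) hlen
        exact actK.backs_of_ok ⟨6, hk0⟩ AD.t56_ok a (Nat.zero_le _) (by omega) i hi
      · have hlen : (AD.A.orb 7).roots.length = 2 := by decide +kernel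
        have ha' : a < 2 :=
          lt_of_lt_of_eq (show a < (AD.A.orb 7).roots.length from ha) hlen
        exact actK.backs_of_ok ⟨7, hk0⟩ AD.t57_ok a (Nat.zero_le _) (by omega) i hi
      · have hlen : (AD.A.orb 8).roots.length = 7 := by decide +kernel
        have ha' : a < 7 :=
          lt_of_lt_of_eq (show a < (AD.A.orb 8).roots.length from ha) hlen
        exact actK.backs_of_ok ⟨8, hk0⟩ AD.t58_ok a (Nat.zero_le _) (by omega) i hi

/-- the relator `x⁻¹ t x t t` holds -/
theorem xt_rel : ∀ z : Omega, actK.run [1, 6, 0, 6, 6] z = z := by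
  refine actK.run_fixed (Ts := AD.T1) {u | actK.M.act u actK.special = actK.special} ?_ ?_ ?_
  · intro u hu z
    refine actK.run_smul_conj (a := 1) (b := 0) (T := 6) (by rw [g_eq]; omega)
      (by rw [g_eq]; omega) (by rw [g_eq]; omega) ?_ hu
      (of_fix (conj_x_fixed (inv_mem (to_fix hu)))) z
    exact permsK.val_ivw [0]
  · intro u hu
    exact ⟨0, by decide, by simpa [AD.T1, Perms.val, wv] using hu⟩
  · intro k a ha i hi
    have hk : (k : Nat) < 9 := len_orbs ▸ k.2
    exact by
      obtain ⟨k, hk0⟩ := k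
      interval_cases k
      · have hlen : (AD.A.orb 0).roots.length = 1 := by decide +kernel
        have ha' : a < 1 :=
          lt_of_lt_of_eq (show a < (AD.A.orb 0).roots.length from ha) hlen
        exact actK.backs_of_ok ⟨0, hk0⟩ AD.xt0_ok a (Nat.zero_le _) (by omega) i hi
      · have hlen : (AD.A.orb 1).roots.length = 11 := by decide +kernel
        have ha' : a < 11 :=
          lt_of_lt_of_eq (show a < (AD.A.orb 1).roots.length from ha) hlen
        exact actK.backs_of_ok ⟨1, hk0⟩ AD.xt1_ok a (Nat.zero_le _) (by omega) i hi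
      · have hlen : (AD.A.orb 2).roots.length = 4 := by decide +kernel
        have ha' : a < 4 :=
          lt_of_lt_of_eq (show a < (AD.A.orb 2).roots.length from ha) hlen
        exact actK.backs_of_ok ⟨2, hk0⟩ AD.xt2_ok a (Nat.zero_le _) (by omega) i hi
      · have hlen : (AD.A.orb 3).roots.length = 14 := by decide +kernel
        have ha' : a < 14 :=
          lt_of_lt_of_eq (show a < (AD.A.orb 3).roots.length from ha) hlen
        exact actK.backs_of_ok ⟨3, hk0⟩ AD.xt3_ok a (Nat.zero_le _) (by omega) i hi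
      · have hlen : (AD.A.orb 4).roots.length = 16 := by decide +kernel
        have ha' : a < 16 :=
          lt_of_lt_of_eq (show a < (AD.A.orb 4).roots.length from ha) hlen
        exact actK.backs_of_ok ⟨4, hk0⟩ AD.xt4_ok a (Nat.zero_le _) (by omega) i hi
      · have hlen : (AD.A.orb 5).roots.length = 16 := by decide +kernel
        have ha' : a < 16 :=
          lt_of_lt_of_eq (show a < (AD.A.orb 5).roots.length from ha) hlen
        exact actK.backs_of_ok ⟨5, hk0⟩ AD.xt5_ok a (Nat.zero_le _) (by omega) i hi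
      · have hlen : (AD.A.orb 6).roots.length = 30 := by decide +kernel
        have ha' : a < 30 :=
          lt_of_lt_of_eq (show a < (AD.A.orb 6).roots.length from ha) hlen
        exact actK.backs_of_ok ⟨6, hk0⟩ AD.xt6_ok a (Nat.zero_le _) (by omega) i hi
      · have hlen : (AD.A.orb 7).roots.length = 2 := by decide +kernel
        have ha' : a < 2 :=
          lt_of_lt_of_eq (show a < (AD.A.orb 7).roots.length from ha) hlen
        exact actK.backs_of_ok ⟨7, hk0⟩ AD.xt7_ok a (Nat.zero_le _) (by omega) i hi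
      · have hlen : (AD.A.orb 8).roots.length = 7 := by decide +kernel
        have ha' : a < 7 :=
          lt_of_lt_of_eq (show a < (AD.A.orb 8).roots.length from ha) hlen
        exact actK.backs_of_ok ⟨8, hk0⟩ AD.xt8_ok a (Nat.zero_le _) (by omega) i hi

/-- the relator `(z t)³` holds -/
theorem zt_rel : ∀ z : Omega, actK.run [4, 6, 4, 6, 4, 6] z = z := by
  refine actK.run_fixed (Ts := AD.Ts) {c | actK.M.act c actK.special = actK.special ∧
    c * actK.M.val [4] = actK.M.val [4] * c} ?_ ?_ ?_
  · rintro u ⟨hu, hc⟩ z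
    refine actK.run_smul hu _ (fun x hx h => ?_) z
    rw [g_eq] at h
    obtain rfl : x = 4 := by simp at hx; omega
    exact hc
  · intro u hu
    exact actK.cover_of_ok k_faithful.1 AD.cover_ok u (fixed_mem (to_fix hu))
  · intro k a ha i hi
    have hk : (k : Nat) < 9 := len_orbs ▸ k.2
    exact by
      obtain ⟨k, hk0⟩ := k
      interval_cases k
      · have hlen : (AD.A.orb 0).roots.length = 1 := by decide +kernel
        have ha' : a < 1 :=
          lt_of_lt_of_eq (show a < (AD.A.orb 0).roots.length from ha) hlen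
        exact actK.backs_of_ok ⟨0, hk0⟩ AD.zt0_ok a (Nat.zero_le _) (by omega) i hi
      · have hlen : (AD.A.orb 1).roots.length = 11 := by decide +kernel
        have ha' : a < 11 :=
          lt_of_lt_of_eq (show a < (AD.A.orb 1).roots.length from ha) hlen
        exact actK.backs_of_ok ⟨1, hk0⟩ AD.zt1_ok a (Nat.zero_le _) (by omega) i hi
      · have hlen : (AD.A.orb 2).roots.length = 4 := by decide +kernel
        have ha' : a < 4 :=
          lt_of_lt_of_eq (show a < (AD.A.orb 2).roots.length from ha) hlen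
        exact actK.backs_of_ok ⟨2, hk0⟩ AD.zt2_ok a (Nat.zero_le _) (by omega) i hi
      · have hlen : (AD.A.orb 3).roots.length = 14 := by decide +kernel
        have ha' : a < 14 :=
          lt_of_lt_of_eq (show a < (AD.A.orb 3).roots.length from ha) hlen
        exact actK.backs_of_ok ⟨3, hk0⟩ AD.zt3_ok a (Nat.zero_le _) (by omega) i hi
      · have hlen : (AD.A.orb 4).roots.length = 16 := by decide +kernel
        have ha' : a < 16 :=
          lt_of_lt_of_eq (show a < (AD.A.orb 4).roots.length from ha) hlen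
        exact actK.backs_of_ok ⟨4, hk0⟩ AD.zt4_ok a (Nat.zero_le _) (by omega) i hi
      · have hlen : (AD.A.orb 5).roots.length = 16 := by decide +kernel
        have ha' : a < 16 :=
          lt_of_lt_of_eq (show a < (AD.A.orb 5).roots.length from ha) hlen
        exact actK.backs_of_ok ⟨5, hk0⟩ AD.zt5_ok a (Nat.zero_le _) (by omega) i hi
      · have hlen : (AD.A.orb 6).roots.length = 30 := by decide +kernel
        have ha' : a < 30 :=
          lt_of_lt_of_eq (show a < (AD.A.orb 6).roots.length from ha) hlen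
        rcases Nat.lt_or_ge a 15 with h15 | h15
        · exact actK.backs_of_ok ⟨6, hk0⟩ AD.zt6_ok a (Nat.zero_le _) (by omega) i hi
        · exact actK.backs_of_ok ⟨6, hk0⟩ AD.zt6_15_ok a h15 (by omega) i hi
      · have hlen : (AD.A.orb 7).roots.length = 2 := by decide +kernel
        have ha' : a < 2 :=
          lt_of_lt_of_eq (show a < (AD.A.orb 7).roots.length from ha) hlen
        exact actK.backs_of_ok ⟨7, hk0⟩ AD.zt7_ok a (Nat.zero_le _) (by omega) i hi
      · have hlen : (AD.A.orb 8).roots.length = 7 := by decide +kernel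
        have ha' : a < 7 :=
          lt_of_lt_of_eq (show a < (AD.A.orb 8).roots.length from ha) hlen
        exact actK.backs_of_ok ⟨8, hk0⟩ AD.zt8_ok a (Nat.zero_le _) (by omega) i hi

theorem tau_pow_five (z : Omega) :
    actK.tau (actK.tau (actK.tau (actK.tau (actK.tau z)))) = z := by
  have h := tau_five z
  rw [actK.run_cons, actK.run_cons, actK.run_cons, actK.run_cons, actK.run_cons, actK.run_nil] at h
  rw [step_T, step_T, step_T, step_T, step_T] at h
  exact h

/-- `T` as a permutation -/
noncomputable def tauE : Equiv.Perm Omega where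
  toFun := actK.tau
  invFun z := actK.tau (actK.tau (actK.tau (actK.tau z)))
  left_inv z := tau_pow_five z
  right_inv z := tau_pow_five z

theorem tauE_apply (z : Omega) : tauE z = actK.tau z := rfl

/-- images of the generators -/
noncomputable def rhoGen : Fin 4 → Equiv.Perm Omega
  | 0 => permHom (Grp.gen 0)
  | 1 => permHom (Grp.gen 1)
  | 2 => permHom (Grp.gen 2)
  | 3 => tauE⁻¹

theorem rho_letter {x : Nat} (hx : x < 6) : lv rhoGen x = permHom (permsK.val [x]) := by
  have e : permsK.val [x] = lv (fun k : Fin 3 => (Grp.gen k : GrpK)) x := by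
    show wv _ [x] = _
    simp [wv]
    rfl
  rw [e]
  interval_cases x <;> simp [lv, rhoGen]

theorem rho_word : ∀ w : List Nat, (∀ x ∈ w, x < 6) → wv rhoGen w = permHom (permsK.val w) := by
  intro w
  induction w with
  | nil => intro _; simp [Perms.val, wv]
  | cons x w ih =>
    intro hw
    obtain ⟨hx, hw⟩ := List.forall_mem_cons.1 hw
    rw [wv_cons, ih hw, rho_letter hx, ← map_mul, ← permsK.val_append]
    rfl

theorem run_rho : ∀ (l : List Nat), (∀ x ∈ l, x < 7) → ∀ z : Omega,
    (wv rhoGen l)⁻¹ z = actK.run l z := by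
  intro l
  induction l with
  | nil => intro _ z; simp [wv, ActModel.run]
  | cons x l ih =>
    intro hl z
    obtain ⟨hx, hl⟩ := List.forall_mem_cons.1 hl
    rw [wv_cons, mul_inv_rev, Equiv.Perm.mul_apply, actK.run_cons, ← ih hl]
    congr 1
    by_cases h6 : x < 6
    · rw [rho_letter h6, permHom_inv_apply, step_gen z h6]
    · obtain rfl : x = 6 := by omega
      rw [step_T]
      simp [lv, rhoGen, tauE_apply]

theorem rho_rel : ∀ w ∈ RG, wv rhoGen w = 1 := by
  intro w hw
  rw [RG, List.mem_append] at hw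
  rcases hw with hw | hw
  · have hlt : ∀ x ∈ w, x < 6 := by
      have hall : (RK.all fun w => w.all fun x => Nat.blt x 6) = true := by decide +kernel
      simpa using List.all_eq_true.1 hall w hw
    rw [rho_word w hlt, show permsK.val w = 1 from Grp.wv_rel hw, map_one]
  have key : ∀ l : List Nat, (∀ x ∈ l, x < 7) → (∀ z : Omega, actK.run l z = z) →
      wv rhoGen l = 1 := fun l hl h => inv_eq_one.1 (Equiv.ext fun z => by
        rw [run_rho l hl z, h z]; rfl)
  simp only [List.mem_cons, List.not_mem_nil, or_false] at hw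
  rcases hw with rfl | rfl | rfl | rfl
  · exact key _ (by simp) tau_five
  · exact key _ (by simp) xt_rel
  · have hy : ∀ z : Omega, actK.tau ((Grp.gen 1 : GrpK) • z) = (Grp.gen 1 : GrpK) • actK.tau z := by
      refine actK.tau_smul (of_fix ⟨trivial, fun i hi => Fin.ext ?_⟩)
      have e : (Grp.gen 1 : GrpK) = permsK.val [2] := by
        simp [Perms.val, wv, lv]
        rfl
      rw [e, ← permsK.app_eq [2] (by decide +kernel), List.mem_singleton.1 hi]
      decide +kernel
    have hc : permHom (Grp.gen 1) * tauE = tauE * permHom (Grp.gen 1) :=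
      Equiv.ext fun z : Omega => (hy z).symm
    simp only [wv, List.map_cons, List.map_nil, List.prod_cons, List.prod_nil, mul_one]
    simp only [lv, rhoGen]
    show (tauE⁻¹)⁻¹ * ((permHom (Grp.gen 1))⁻¹ * (tauE⁻¹ * permHom (Grp.gen 1))) = 1
    generalize permHom (Grp.gen 1) = p at hc
    generalize tauE = t at hc
    rw [inv_inv, show t⁻¹ * p = p * t⁻¹ from
      (Commute.inv_left (hc.symm : Commute t p)).eq]
    group
  · exact key _ (by simp) zt_rel

theorem extra_eq : Cfsg.Spor.HN.extra = RG.map (wv fgen) := by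
  simp [Cfsg.Spor.HN.extra, RG, RK, wv, lv, fgen, pow_succ, mul_assoc]

/-- generator numbers -/
def genIdx : Cfsg.Spor.HN.Gen → Fin 4
  | .x => 0
  | .y => 1
  | .z => 2
  | .t => 3

/-- the action of the presented group -/
noncomputable def rho : GHN →* Equiv.Perm Omega :=
  PresentedGroup.toGroup (f := fun g => rhoGen (genIdx g)) (by
    rintro r (hr | hr)
    · obtain ⟨x, hx, -⟩ := hr
      simp [Cfsg.Spor.coxNodes, Cfsg.Spor.HN.edges] at hx
    · have hr' : r ∈ RG.map (wv fgen) := extra_eq ▸ hr
      obtain ⟨w, hw, rfl⟩ := List.mem_map.1 hr'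
      rw [map_wv]
      have : (fun k : Fin 4 => FreeGroup.lift (fun g => rhoGen (genIdx g)) (fgen k)) = rhoGen := by
        funext k
        fin_cases k <;> simp [fgen, genIdx, rhoGen]
      rw [this]
      exact rho_rel w hw)

theorem rho_hgen (k : Fin 4) : rho (hgen k) = rhoGen k := by
  fin_cases k <;> exact PresentedGroup.toGroup.of _

theorem rho_psiK : rho.comp psiK = permHom := by
  refine MonoidHom.eq_of_eqOn_dense (Grp.closure_gen (rels := RK)) ?_
  rintro _ ⟨k, rfl⟩
  rw [MonoidHom.comp_apply, psiK_gen, rho_hgen]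
  fin_cases k <;> rfl

theorem zero_lt_orbs : 0 < AD.A.orbs.length := by rw [len_orbs]; omega

/-- the first point -/
noncomputable def omega0 : Omega := actK.pnt ⟨0, zero_lt_orbs⟩ 1

theorem rho_transitive (z : Omega) : ∃ g : GHN, rho g omega0 = z := by
  obtain ⟨k, h, rfl⟩ := actK.pnt_surj z
  have hk : (k : Nat) < 9 := len_orbs ▸ k.2
  have hp : allBelow 9 (fun k => ((AD.paths.getD k []).all fun x => Nat.blt x 7) &&
      Nat.beq (AD.A.runW (AD.paths.getD k []) (0, [])).1 k) = true := by decide +kernel
  have := allBelow_spec hp k hk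
  simp only [Bool.and_eq_true, List.all_eq_true, Nat.blt_eq, Nat.beq_eq] at this
  obtain ⟨hl, he⟩ := this
  obtain ⟨hj, -, hr⟩ := actK.run_word (AD.paths.getD k []) ⟨0, zero_lt_orbs⟩ [] (by simp)
  rw [← run_rho _ hl] at hr
  have hw : wv rhoGen (AD.paths.getD k []) = rho (wv hgen (AD.paths.getD k [])) := by
    rw [map_wv]
    exact congrArg (fun f => wv f (AD.paths.getD (↑k) [])) (funext fun i => (rho_hgen i).symm)
  generalize AD.A.runW (AD.paths.getD k []) (0, []) = p at hj he hr
  refine ⟨psiK (h⁻¹ * permsK.val p.2) * (wv hgen (AD.paths.getD k []))⁻¹, ?_⟩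
  rw [map_mul, Equiv.Perm.mul_apply, map_inv, ← hw, ← MonoidHom.comp_apply rho psiK, rho_psiK]
  have h0 : omega0 = actK.pnt ⟨0, zero_lt_orbs⟩ (permsK.val []) := by
    simp [omega0, Perms.val, wv]
  rw [h0, show (wv rhoGen (AD.paths.getD k []))⁻¹
    (actK.pnt ⟨0, zero_lt_orbs⟩ (permsK.val [])) = _ from hr]
  show (h⁻¹ * permsK.val p.2) • actK.pnt _ _ = _
  rw [actK.smul_pnt]
  refine actK.pnt_congr (Fin.ext he) ?_
  show permsK.val p.2 * (h⁻¹ * permsK.val p.2)⁻¹ * h⁻¹ ∈ _
  rw [show permsK.val p.2 * (h⁻¹ * permsK.val p.2)⁻¹ * h⁻¹ = 1 by group]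
  exact one_mem _

theorem card_Omega : Nat.card Omega = 1539000 := by
  obtain ⟨hfin, -⟩ := gk_bound
  have e : ∀ k : Fin AD.A.orbs.length,
      Nat.card (GrpK ⧸ actK.stab k) = 177408000 / orders.getD k 0 := by
    intro k
    have := (actK.stab k).index_mul_card
    rw [k_faithful.2, show Nat.card (actK.stab k) = orders.getD k 0 from stab_card k.2] at this
    rw [← this]
    refine (Nat.mul_div_left _ ?_).symm
    rw [← stab_card k.2]
    exact Nat.card_pos
  show Nat.card (Σ k : Fin AD.A.orbs.length, GrpK ⧸ actK.stab k) = _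
  rw [Nat.card_sigma]
  simp only [e]
  decide +kernel

theorem stab0_top : actK.stab ⟨0, zero_lt_orbs⟩ = ⊤ := by
  obtain ⟨hfin, -⟩ := gk_bound
  refine Subgroup.eq_top_of_card_eq _ ?_
  rw [k_faithful.2]
  exact stab_card zero_lt_orbs

theorem psiK_index : psiK.range.index = 1539000 := by
  let _ : MulAction GHN Omega := MulAction.compHom Omega rho
  have : MulAction.IsPretransitive GHN Omega := by
    refine ⟨fun a b => ?_⟩
    obtain ⟨g, hg⟩ := rho_transitive a
    obtain ⟨g', hg'⟩ := rho_transitive b
    refine ⟨g' * g⁻¹, ?_⟩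
    show rho (g' * g⁻¹) a = b
    rw [map_mul, map_inv, Equiv.Perm.mul_apply, ← hg, Equiv.Perm.inv_def, Equiv.symm_apply_apply,
      hg']
  have h1 : (MulAction.stabilizer GHN omega0).index = 1539000 := by
    rw [MulAction.index_stabilizer_of_transitive, card_Omega]
  have hle : psiK.range ≤ MulAction.stabilizer GHN omega0 := by
    rintro _ ⟨u, rfl⟩
    show rho (psiK u) omega0 = omega0
    rw [← MonoidHom.comp_apply rho psiK, rho_psiK]
    show u • omega0 = omega0
    rw [omega0, actK.smul_pnt, actK.pnt_eq_iff, stab0_top]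
    trivial
  obtain ⟨hi, hi0⟩ := psiK_index_le
  exact le_antisymm hi (h1 ▸ Nat.le_of_dvd (Nat.pos_of_ne_zero hi0) (Subgroup.index_dvd_of_le hle))

theorem fix_one_eq_one {h : GrpK}
    (hh : ∀ z : Omega, h • z = z) : h = 1 := by
  refine k_faithful.1 h fun b hb => ?_
  have h1 : 1 < AD.A.orbs.length := by rw [len_orbs]; omega
  have hfix1 : ∀ g ∈ actK.stab ⟨1, h1⟩, g ∈ Ufix := by
    intro g hg
    have hle : actK.stab ⟨1, h1⟩ ≤ Ufix := by
      show permsK.sub (AD.A.orb 1).gens ≤ _
      rw [Perms.sub, Subgroup.closure_le]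
      rintro _ ⟨w, hw, rfl⟩
      have hall : ((AD.A.orb 1).gens.all fun w => (w.all fun x => Nat.blt x GK.P.g) &&
          Nat.beq (GK.P.app w 0) 0) = true := by decide +kernel
      have := List.all_eq_true.1 hall w hw
      simp only [Bool.and_eq_true, List.all_eq_true, Nat.blt_eq, Nat.beq_eq] at this
      refine ⟨trivial, fun i hi => Fin.ext ?_⟩
      rw [← permsK.app_eq w this.1 i, List.mem_singleton.1 hi]
      exact this.2
    exact hle hg
  have hwords : (GK.base.all fun b => AD.baseWords.any fun w =>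
      (w.all fun x => Nat.blt x GK.P.g) && Nat.beq (GK.P.app w 0) b) = true := by decide +kernel
  have := List.all_eq_true.1 hwords b hb
  simp only [List.any_eq_true, Bool.and_eq_true, List.all_eq_true, Nat.blt_eq, Nat.beq_eq] at this
  obtain ⟨w, -, hw, hwb⟩ := this
  obtain ⟨s0, hs0⟩ : ∃ s : Fin GK.P.n, (s : Nat) = 0 := ⟨⟨0, by decide +kernel⟩, rfl⟩
  have hb' : permsK.act (permsK.val w) s0 = b := Fin.ext (by
    rw [← permsK.app_eq w hw, hs0, hwb])
  have hz : h • actK.pnt ⟨1, h1⟩ (permsK.val w) = actK.pnt ⟨1, h1⟩ (permsK.val w) := hh _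
  rw [actK.smul_pnt, actK.pnt_eq_iff] at hz
  have hf : permsK.act (permsK.val w * h⁻¹ * (permsK.val w)⁻¹) s0 = s0 :=
    (hfix1 _ hz).2 s0 (List.mem_singleton.2 hs0)
  rw [permsK.act_mul, permsK.act_mul, hb'] at hf
  have e : permsK.act h⁻¹ b = b := by
    have h2 := congrArg (permsK.act (permsK.val w)) hf
    rwa [← permsK.act_mul _ (permsK.val w), inv_mul_cancel, permsK.act_one, hb'] at h2
  conv_lhs => rw [← e]
  rw [← permsK.act_mul, inv_mul_cancel, permsK.act_one]

theorem psiK_injective : Function.Injective psiK := by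
  refine (injective_iff_map_eq_one _).2 fun h hh => fix_one_eq_one fun z => ?_
  show permHom h z = z
  rw [← rho_psiK, MonoidHom.comp_apply, hh, map_one]
  rfl

theorem ghn_card : Nat.card GHN = 273030912000000 := by
  have hr : Nat.card psiK.range = 177408000 := by
    rw [← k_faithful.2]
    exact (Nat.card_congr (MonoidHom.ofInjective psiK_injective).toEquiv).symm
  rw [← psiK.range.card_mul_index, hr, psiK_index]

/-- the subgroup on `x, y, z` is the image of the group on `x, y, z` -/
theorem closure_map_eq :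
    (Subgroup.closure ({Cfsg.Spor.HN.x, Cfsg.Spor.HN.y, Cfsg.Spor.HN.z} :
      Set (FreeGroup Cfsg.Spor.HN.Gen))).map (PresentedGroup.mk
        (Cfsg.Spor.coxRelators Cfsg.Spor.HN.edges ∪ {r | r ∈ Cfsg.Spor.HN.extra})) =
      psiK.range := by
  rw [MonoidHom.map_closure, MonoidHom.range_eq_map, ← Grp.closure_gen (rels := RK),
    MonoidHom.map_closure]
  congr 1
  ext g
  simp only [Set.mem_image, Set.mem_range, Set.mem_insert_iff, Set.mem_singleton_iff]
  constructor
  · rintro ⟨r, rfl | rfl | rfl, rfl⟩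
    · exact ⟨Grp.gen 0, ⟨0, rfl⟩, psiK_gen 0⟩
    · exact ⟨Grp.gen 1, ⟨1, rfl⟩, psiK_gen 1⟩
    · exact ⟨Grp.gen 2, ⟨2, rfl⟩, psiK_gen 2⟩
  · rintro ⟨_, ⟨k, rfl⟩, rfl⟩
    rw [psiK_gen]
    fin_cases k
    · exact ⟨_, Or.inl rfl, rfl⟩
    · exact ⟨_, Or.inr (Or.inl rfl), rfl⟩
    · exact ⟨_, Or.inr (Or.inr rfl), rfl⟩

end CfsgLib.Spor.HN
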