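import Cfsg.Agent.Lib.Spor.HN.GKSub
import Cfsg.Agent.Lib.Spor.HN.GKData

/-!
Kernel checks: orders in the group on `x, y, z` from orbits along bases.
-/

namespace CfsgLib.Spor.HN.GK

open CfsgLib.PresCert CfsgLib.DCE

theorem pair_ok : okPair P = true := by decide +kernel

theorem levels_ok : okWLevels P [] ls = true := by decide +kernel

theorem e0_levels : okWLevels P [] [E0L0] = true := by decide +kernel

theorem e0_fix : (V0ws.all fun w => (w.all fun x => Nat.blt x P.g) &&
    Nat.beq (P.app w E0L0.base) E0L0.base) = true := by decide +kernel

theorem v0_els : okEls P base V0ws V0els = true := by decide +kernel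

theorem v0_levels : okWLevels P [] V0ls = true := by decide +kernel

theorem v0_gens : (V0ls.all fun L => L.gens.all fun w => (V0ws ++ V0els.map Prod.fst).contains w) = true := by
  decide +kernel

theorem s0_els : okEls P base S0ws S0els = true := by decide +kernel

theorem s0_levels : okWLevels P [] S0ls = true := by decide +kernel

theorem s0_gens : (S0ls.all fun L => L.gens.all fun w => (S0ws ++ S0els.map Prod.fst).contains w) = true := by
  decide +kernel

theorem s0_pairs : okPairs S0ws (live0.stabs.map fun f => (Setup.fget facts f).p) = true := by
  decide +kernel

theorem s1_els : okEls P base S1ws S1els = true := by decide +kernel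

theorem s1_levels : okWLevels P [] S1ls = true := by decide +kernel

theorem s1_gens : (S1ls.all fun L => L.gens.all fun w => (S1ws ++ S1els.map Prod.fst).contains w) = true := by
  decide +kernel

theorem s1_pairs : okPairs S1ws (live1.stabs.map fun f => (Setup.fget facts f).p) = true := by
  decide +kernel

theorem s2_els : okEls P base S2ws S2els = true := by decide +kernel

theorem s2_levels : okWLevels P [] S2ls = true := by decide +kernel

theorem s2_gens : (S2ls.all fun L => L.gens.all fun w => (S2ws ++ S2els.map Prod.fst).contains w) = true := by
  decide +kernel

theorem s2_pairs : okPairs S2ws (live2.stabs.map fun f => (Setup.fget facts f).p) = true := by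
  decide +kernel

theorem s3_els : okEls P base S3ws S3els = true := by decide +kernel

theorem s3_levels : okWLevels P [] S3ls = true := by decide +kernel

theorem s3_gens : (S3ls.all fun L => L.gens.all fun w => (S3ws ++ S3els.map Prod.fst).contains w) = true := by
  decide +kernel

theorem s3_pairs : okPairs S3ws (live3.stabs.map fun f => (Setup.fget facts f).p) = true := by
  decide +kernel

theorem s4_els : okEls P base S4ws S4els = true := by decide +kernel

theorem s4_levels : okWLevels P [] S4ls = true := by decide +kernel

theorem s4_gens : (S4ls.all fun L => L.gens.all fun w => (S4ws ++ S4els.map Prod.fst).contains w) = true := by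
  decide +kernel

theorem s4_pairs : okPairs S4ws (live4.stabs.map fun f => (Setup.fget facts f).p) = true := by
  decide +kernel

theorem s5_els : okEls P base S5ws S5els = true := by decide +kernel

theorem s5_levels : okWLevels P [] S5ls = true := by decide +kernel

theorem s5_gens : (S5ls.all fun L => L.gens.all fun w => (S5ws ++ S5els.map Prod.fst).contains w) = true := by
  decide +kernel

theorem s5_pairs : okPairs S5ws (live5.stabs.map fun f => (Setup.fget facts f).p) = true := by
  decide +kernel

theorem s6_els : okEls P base S6ws S6els = true := by decide +kernel

theorem s6_levels : okWLevels P [] S6ls = true := by decide +kernel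

theorem s6_gens : (S6ls.all fun L => L.gens.all fun w => (S6ws ++ S6els.map Prod.fst).contains w) = true := by
  decide +kernel

theorem s6_pairs : okPairs S6ws (live6.stabs.map fun f => (Setup.fget facts f).p) = true := by
  decide +kernel

theorem s7_els : okEls P base S7ws S7els = true := by decide +kernel

theorem s7_levels : okWLevels P [] S7ls = true := by decide +kernel

theorem s7_gens : (S7ls.all fun L => L.gens.all fun w => (S7ws ++ S7els.map Prod.fst).contains w) = true := by
  decide +kernel

theorem s7_pairs : okPairs S7ws (live7.stabs.map fun f => (Setup.fget facts f).p) = true := by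
  decide +kernel

theorem s8_els : okEls P base S8ws S8els = true := by decide +kernel

theorem s8_levels : okWLevels P [] S8ls = true := by decide +kernel

theorem s8_gens : (S8ls.all fun L => L.gens.all fun w => (S8ws ++ S8els.map Prod.fst).contains w) = true := by
  decide +kernel

theorem s8_pairs : okPairs S8ws (live8.stabs.map fun f => (Setup.fget facts f).p) = true := by
  decide +kernel

end CfsgLib.Spor.HN.GK
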