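import Cfsg.Agent.Lib.Spor.HN.KFaithful
import Cfsg.Agent.Lib.Spor.HN.HS100Data
import Cfsg.Agent.Lib.Spor.HSRecog
import Cfsg.Prelude.Def_SporadicB

/-!
The group on `x, y, z` has a subgroup of index 2 which is a non-split double cover of the
Higman-Sims group: modulo `x²` it is a rank 3 group on 100 points with subdegrees 1, 22, 77.
-/

namespace CfsgLib.Spor.HN

open CfsgLib.PresCert CfsgLib.DCE

private theorem pair100 : okPair HS100.P = true := by decide +kernel
private theorem rels100 : okRels HS100.P RK = true := by decide +kernel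

/-- the representation on 100 points -/
noncomputable def perms100 : Perms HS100.P GrpK :=
  Perms.ofGrp (m := 3) rfl pair100 rels100

/-- signs of the generators -/
def eps3 : Fin 3 → ℤˣ := fun k => if (k : Nat) = 2 then -1 else 1

private theorem eps_rels : ∀ w ∈ RK, wv eps3 w = 1 := by decide +kernel

/-- the sign -/
noncomputable def epsK : GrpK →* ℤˣ := Grp.lift eps3 eps_rels

/-- the subgroup of index 2 -/
noncomputable def K0 : Subgroup GrpK := epsK.ker

/-- a word lies in the subgroup of index 2 -/
def evenW (w : List Nat) : Bool := decide (wv eps3 w = 1)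

theorem even_mem {w : List Nat} (h : evenW w = true) : permsK.val w ∈ K0 := by
  have e : epsK (permsK.val w) = wv eps3 w := by
    rw [show permsK.val w = wv (Grp.gen (m := 3) (rels := RK)) w from by
      unfold Perms.val permsK Perms.ofGrp
      rfl, map_wv]
    exact congrArg (fun f => wv f w) (funext fun k => Grp.lift_gen eps3 eps_rels k)
  rw [K0, MonoidHom.mem_ker, e]
  exact of_decide_eq_true h

theorem valK_eq (w : List Nat) :
    permsK.val w = wv (Grp.gen (m := 3) (rels := RK)) w := by
  unfold Perms.val permsK Perms.ofGrp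
  rfl

theorem val100_eq (w : List Nat) :
    perms100.val w = wv (Grp.gen (m := 3) (rels := RK)) w := by
  unfold Perms.val perms100 Perms.ofGrp
  rfl

theorem val100 (w : List Nat) : perms100.val w = permsK.val w :=
  (val100_eq w).trans (valK_eq w).symm

theorem k0_index : K0.index = 2 := by
  rw [K0, Subgroup.index_ker]
  have h : epsK.range = ⊤ := by
    refine top_le_iff.1 fun u _ => ?_
    rcases Int.units_eq_one_or u with rfl | rfl
    · exact one_mem _
    · exact ⟨Grp.gen 2, Grp.lift_gen eps3 eps_rels 2⟩
  rw [h, Subgroup.card_top, Nat.card_eq_fintype_card]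
  rfl

theorem k0_card : Nat.card K0 = 88704000 := by
  obtain ⟨hfin, -⟩ := gk_bound
  have := K0.card_mul_index
  rw [k0_index, k_faithful.2] at this
  omega

/-- the central involution -/
noncomputable def zK : GrpK := permsK.val [0, 0]

theorem k_eq_of_base {u w : List Nat} (hu : ∀ x ∈ u, x < GK.P.g) (hw : ∀ x ∈ w, x < GK.P.g)
    (h : (GK.base.all fun b => Nat.beq (GK.P.app u b) (GK.P.app w b)) = true) :
    permsK.val u = permsK.val w := by
  simp only [List.all_eq_true, Nat.beq_eq] at h
  rw [← mul_inv_eq_one]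
  refine k_faithful.1 _ fun b hb => ?_
  have e := h b hb
  rw [permsK.app_eq u hu, permsK.app_eq w hw] at e
  rw [permsK.act_mul, Fin.ext e, ← permsK.act_mul, mul_inv_cancel, permsK.act_one]

theorem zK_sq : zK * zK = 1 := by
  rw [zK, ← permsK.val_append]
  refine (k_eq_of_base (w := []) (by decide +kernel) (by simp) (by decide +kernel)).trans ?_
  simp [Perms.val, wv]

theorem zK_ne : zK ≠ 1 := by
  intro h
  have e : (GK.base.all fun b => Nat.beq (GK.P.app [0, 0] b) b) = false := by decide +kernel
  refine absurd ?_ (Bool.eq_false_iff.1 e)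
  simp only [List.all_eq_true, Nat.beq_eq]
  intro b hb
  have hlt : b < GK.P.n := base_lt_k b hb
  have := permsK.app_eq [0, 0] (by decide +kernel) ⟨b, hlt⟩
  rw [show permsK.val [0, 0] = 1 from h, permsK.act_one] at this
  exact this

theorem zK_central : ∀ g : GrpK, g * zK = zK * g := by
  have h : ∀ k : Fin 3, (Grp.gen k : GrpK) * zK = zK * Grp.gen k := by
    intro k
    have e : (Grp.gen k : GrpK) = permsK.val [2 * (k : Nat)] := by
      rw [valK_eq]
      fin_cases k <;> simp [wv, lv]
    rw [e, zK, ← permsK.val_append, ← permsK.val_append]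
    fin_cases k <;>
      exact k_eq_of_base (by decide +kernel) (by decide +kernel) (by decide +kernel)
  intro g
  have hle : Subgroup.closure (Set.range (Grp.gen (m := 3) (rels := RK))) ≤
      Subgroup.centralizer {zK} := by
    rw [Subgroup.closure_le]
    rintro _ ⟨k, rfl⟩
    exact Subgroup.mem_centralizer_singleton_iff.2 (h k)
  rw [Grp.closure_gen] at hle
  exact Subgroup.mem_centralizer_singleton_iff.1 (hle (Subgroup.mem_top g))

theorem zK_mem : zK ∈ K0 := even_mem (by decide +kernel)

/-- the map of the subgroup of index 2 to permutations of 100 points -/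
noncomputable def hom100 : K0 →* Equiv.Perm (Fin HS100.P.n) := perms100.π.comp K0.subtype

theorem levels100 : okWLevels HS100.P [] HS100.ls = true := by decide +kernel

theorem ker100_card : Nat.card hom100.ker = 2 ∧ ∀ g : K0, g ∈ hom100.ker → (g : GrpK) = 1 ∨ (g : GrpK) = zK := by
  obtain ⟨hfin, -⟩ := gk_bound
  let bases := (HS100.ls.map WLevel.base).reverse ++ ([] : List Nat)
  have hgens : ∀ L ∈ HS100.ls, ∀ w ∈ L.gens, perms100.val w ∈ K0 := by
    have h : (HS100.ls.all fun L => L.gens.all evenW) = true := by decide +kernel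
    simp only [List.all_eq_true] at h
    exact fun L hL w hw => (val100 w).symm ▸ even_mem (h L hL w hw)
  have h1 := perms100.wlevels_bound K0 HS100.ls [] levels100 hgens
  have h2 : Nat.card (perms100.fixIn K0 ([] : List Nat)) ≤ 88704000 :=
    k0_card ▸ Subgroup.card_le_of_le fun x hx => hx.1
  have hp : (HS100.ls.map WLevel.len).prod = 44352000 := by decide +kernel
  rw [hp] at h1
  have hF : Nat.card (perms100.fixIn K0 bases) ≤ 2 := by
    show Nat.card (perms100.fixIn K0 ((HS100.ls.map WLevel.base).reverse ++ ([] : List Nat))) ≤ 2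
    have := h1.trans h2
    omega
  have hzF : zK ∈ perms100.fixIn K0 bases := by
    refine ⟨zK_mem, fun i _ => Fin.ext ?_⟩
    have h : allBelow HS100.P.n (fun i => Nat.beq (HS100.P.app [0, 0] i) i) = true := by
      decide +kernel
    rw [show zK = perms100.val [0, 0] from (val100 [0, 0]).symm, ← perms100.app_eq [0, 0] (by decide +kernel)]
    exact Nat.eq_of_beq_eq_true (allBelow_spec h i i.2)
  have hker : ∀ g : K0, g ∈ hom100.ker → (g : GrpK) ∈ perms100.fixIn K0 bases := by
    intro g hg
    refine ⟨g.2, fun i _ => ?_⟩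
    have : perms100.π (g : GrpK) = 1 := hg
    simp [Perms.act, this]
  have key : ∀ x ∈ perms100.fixIn K0 bases, x = 1 ∨ x = zK := by
    intro x hx
    by_contra hne
    push_neg at hne
    let f : Fin 3 → perms100.fixIn K0 bases := ![1, ⟨zK, hzF⟩, ⟨x, hx⟩]
    have hf : Function.Injective f := by
      intro a b e
      have e' := congrArg Subtype.val e
      fin_cases a <;> fin_cases b <;>
        simp [f, zK_ne, zK_ne.symm, hne.1, hne.1.symm, hne.2, hne.2.symm] at e' ⊢
    have := Nat.card_le_card_of_injective f hf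
    rw [Nat.card_eq_fintype_card (α := Fin 3), Fintype.card_fin] at this
    omega
  refine ⟨?_, fun g hg => key _ (hker g hg)⟩
  have hz : (⟨zK, zK_mem⟩ : K0) ∈ hom100.ker := by
    show perms100.π zK = 1
    refine inv_eq_one.1 (Equiv.ext fun i => Fin.ext ?_)
    have h : allBelow HS100.P.n (fun i => Nat.beq (HS100.P.app [0, 0] i) i) = true := by
      decide +kernel
    show ((perms100.act zK i : Fin HS100.P.n) : Nat) = i
    rw [show zK = perms100.val [0, 0] from (val100 [0, 0]).symm]
    rw [← perms100.app_eq [0, 0] (by decide +kernel)]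
    exact Nat.eq_of_beq_eq_true (allBelow_spec h i i.2)
  rw [Nat.card_eq_two_iff]
  refine ⟨⟨1, one_mem _⟩, ⟨_, hz⟩, ?_, ?_⟩
  · intro e
    exact zK_ne (congrArg (fun a : hom100.ker => ((a : K0) : GrpK)) e).symm
  · refine Set.eq_univ_of_forall fun g => ?_
    rcases key _ (hker g.1 g.2) with h | h
    · exact Or.inl (Subtype.ext (Subtype.ext h))
    · exact Or.inr (Subtype.ext (Subtype.ext h))

/-- the rank 3 group -/
noncomputable def G100 : Subgroup (Equiv.Perm (Fin HS100.P.n)) := hom100.range

theorem g100_card : Nat.card G100 = 44352000 := by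
  obtain ⟨hfin, -⟩ := gk_bound
  have h := hom100.ker.card_mul_index
  rw [ker100_card.1, Subgroup.index_ker, k0_card] at h
  show Nat.card hom100.range = _
  omega

theorem word_in_g100 {w : List Nat} (h : evenW w = true) : (perms100.π (perms100.val w))⁻¹ ∈ G100 :=
  inv_mem ⟨⟨perms100.val w, (val100 w).symm ▸ even_mem h⟩, rfl⟩

theorem word_apply {w : List Nat} (hw : ∀ x ∈ w, x < HS100.P.g) (i : Fin HS100.P.n) :
    (((perms100.π (perms100.val w))⁻¹ i : Fin HS100.P.n) : Nat) = HS100.P.app w i :=
  (perms100.app_eq w hw i).symm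

theorem moves_ok : (allBelow 100 fun i => evenW (HS100.moves.getD i []) &&
    (HS100.moves.getD i []).all (fun x => Nat.blt x 6) &&
    Nat.beq (HS100.P.app (HS100.moves.getD i []) 0) i) = true := by decide +kernel

/-- the first point -/
def p0 : Fin HS100.P.n := ⟨0, Nat.succ_pos 99⟩

instance g100_transitive : MulAction.IsPretransitive G100 (Fin HS100.P.n) := by
  have h : ∀ i : Fin HS100.P.n, ∃ g : G100, g • p0 = i := by
    intro i
    have := allBelow_spec moves_ok i i.2
    simp only [Bool.and_eq_true, List.all_eq_true, Nat.blt_eq, Nat.beq_eq] at this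
    obtain ⟨⟨he, hl⟩, hm⟩ := this
    exact ⟨⟨_, word_in_g100 he⟩, Fin.ext ((word_apply hl p0).trans hm)⟩
  refine ⟨fun a b => ?_⟩
  obtain ⟨g, rfl⟩ := h a
  obtain ⟨g', rfl⟩ := h b
  exact ⟨g' * g⁻¹, by rw [mul_smul, inv_smul_smul]⟩

/-- adjacency -/
noncomputable def adjB (i j : Nat) : Bool :=
  Nat.beq (Nat.land (Nat.shiftRight (HS100.adj.getD i (nat_lit 0)) j) (nat_lit 1)) (nat_lit 1)

theorem adj_inv : ∀ (g : GrpK) (i j : Fin HS100.P.n),
    adjB (perms100.act g i) (perms100.act g j) = adjB i j := by
  have hgen : ∀ k : Fin 3, ∀ i j : Fin HS100.P.n,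
      adjB (perms100.act (Grp.gen k) i) (perms100.act (Grp.gen k) j) = adjB i j := by
    intro k i j
    have h : ([0, 2, 4].all fun x => allBelow 100 fun i => allBelow 100 fun j =>
        adjB (HS100.P.img x i) (HS100.P.img x j) == adjB i j) = true := by decide +kernel
    have e : (Grp.gen k : GrpK) = perms100.val [2 * (k : Nat)] := by
      rw [val100_eq]
      fin_cases k <;> simp [wv, lv]
    have hx : 2 * (k : Nat) ∈ [0, 2, 4] := by fin_cases k <;> simp
    have hl : ∀ x ∈ [2 * (k : Nat)], x < HS100.P.g := by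
      intro x hx
      rw [List.mem_singleton.1 hx]
      show 2 * (k : Nat) < 6
      omega
    rw [e, ← perms100.app_eq _ hl i, ← perms100.app_eq _ hl j]
    simp only [List.all_eq_true] at h
    simpa [PermData.app] using allBelow_spec (allBelow_spec (h _ hx) i i.2) j j.2
  intro g
  have hg : g ∈ Subgroup.closure (Set.range (Grp.gen (m := 3) (rels := RK))) := by
    rw [Grp.closure_gen]; trivial
  induction hg using Subgroup.closure_induction with
  | mem g hg => obtain ⟨k, rfl⟩ := hg; exact hgen k
  | one => intro i j; rw [perms100.act_one, perms100.act_one]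
  | mul a b _ _ iha ihb => intro i j; rw [perms100.act_mul, perms100.act_mul, ihb, iha]
  | inv a _ iha =>
    intro i j
    rw [← iha (perms100.act a⁻¹ i) (perms100.act a⁻¹ j), ← perms100.act_mul, ← perms100.act_mul,
      inv_mul_cancel, perms100.act_one, perms100.act_one]

theorem stab_keeps (h : MulAction.stabilizer G100 p0) (i : Fin HS100.P.n) :
    adjB 0 (h • i : Fin HS100.P.n) = adjB 0 i ∧ ((h • i : Fin HS100.P.n) = p0 ↔ i = p0) := by
  obtain ⟨⟨_, u, rfl⟩, hu⟩ := h
  constructor
  · have e := adj_inv (u : GrpK)⁻¹ p0 i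
    have h0 : perms100.act (u : GrpK)⁻¹ p0 = p0 := by
      have : perms100.π (u : GrpK) p0 = p0 := hu
      simpa [Perms.act] using this
    rw [h0] at e
    rw [show perms100.act (u : GrpK)⁻¹ i = perms100.π (u : GrpK) i by simp [Perms.act]] at e
    exact e
  · constructor
    · intro e
      exact (perms100.π (u : GrpK)).injective (e.trans (Eq.symm hu))
    · rintro rfl
      exact hu

/-- the data of an orbit of the stabiliser is correct -/
noncomputable def okOrbit100 (b : Nat) (O : List (Nat × List Nat)) : Bool :=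
  O.all fun e => evenW e.2 && (e.2.all fun x => Nat.blt x 6) && Nat.blt e.1 100 &&
    Nat.beq (HS100.P.app e.2 0) 0 && Nat.beq (HS100.P.app e.2 b) e.1

theorem orbit_eq (b : Fin HS100.P.n) (O : List (Nat × List Nat)) (S : Finset (Fin HS100.P.n))
    (hO : okOrbit100 b O = true) (hS : ∀ s ∈ S, ∃ e ∈ O, e.1 = (s : Nat))
    (hinv : ∀ h : MulAction.stabilizer G100 p0, (h • b : Fin HS100.P.n) ∈ S) :
    MulAction.orbit (MulAction.stabilizer G100 p0) b = S := by
  ext i
  constructor
  · rintro ⟨h, rfl⟩
    exact hinv h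
  · intro hi
    obtain ⟨e, he, ee⟩ := hS i hi
    simp only [okOrbit100, List.all_eq_true, Bool.and_eq_true, Nat.blt_eq, Nat.beq_eq] at hO
    obtain ⟨⟨⟨⟨h1, h2⟩, -⟩, h4⟩, h5⟩ := hO e he
    refine ⟨⟨⟨_, word_in_g100 h1⟩, Fin.ext ((word_apply h2 p0).trans h4)⟩, Fin.ext ?_⟩
    exact ((word_apply h2 b).trans h5).trans ee

theorem g100_isoHS : Cfsg.Spor.IsoHS G100 := by
  classical
  obtain ⟨hfin, -⟩ := gk_bound
  have hK : Nat.card (MulAction.stabilizer G100 p0) = 443520 := by
    have h := (MulAction.stabilizer G100 p0).card_mul_index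
    rw [MulAction.index_stabilizer_of_transitive, g100_card, Nat.card_eq_fintype_card
      (α := Fin HS100.P.n), Fintype.card_fin] at h
    have h2 : Nat.card (MulAction.stabilizer G100 p0) * 100 = 44352000 := h
    omega
  let S : Finset (Fin HS100.P.n) := Finset.univ.filter fun i : Fin HS100.P.n => adjB 0 i = true
  let S' : Finset (Fin HS100.P.n) :=
    Finset.univ.filter fun i : Fin HS100.P.n => adjB 0 i = false ∧ i ≠ p0
  let b : Fin HS100.P.n := ⟨2, by decide +kernel⟩
  let c : Fin HS100.P.n := ⟨1, by decide +kernel⟩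
  have hb := orbit_eq b HS100.small S (by decide +kernel)
    (by
      intro s hs
      have h : (allBelow 100 fun i => !adjB 0 i || HS100.small.any fun e => Nat.beq e.1 i) = true := by
        decide +kernel
      have := allBelow_spec h s s.2
      rw [(Finset.mem_filter.1 hs).2] at this
      simpa using this)
    (fun h => Finset.mem_filter.2 ⟨Finset.mem_univ _, by
      rw [(stab_keeps h b).1]; decide +kernel⟩)
  have hc := orbit_eq c HS100.large S' (by decide +kernel)
    (by
      intro s hs
      have h : (allBelow 100 fun i => adjB 0 i || Nat.beq i 0 ||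
          HS100.large.any fun e => Nat.beq e.1 i) = true := by
        decide +kernel
      have := allBelow_spec h s s.2
      rw [(Finset.mem_filter.1 hs).2.1] at this
      have h0 : Nat.beq (s : Nat) 0 = false :=
        Bool.eq_false_iff.2 fun e => (Finset.mem_filter.1 hs).2.2 (Fin.ext (Nat.eq_of_beq_eq_true e))
      rw [h0] at this
      simpa using this)
    (fun h => Finset.mem_filter.2 ⟨Finset.mem_univ _, by
      rw [(stab_keeps h c).1]
      exact ⟨by decide +kernel, fun e => absurd ((stab_keeps h c).2.1 e)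
        (fun e' => absurd (congrArg Fin.val e') (by decide +kernel))⟩⟩)
  refine HSRecog.isoHS_of_rank_three (Ω := Fin HS100.P.n) (Fintype.card_fin _) (G := G100) p0 hK b c ?_ ?_
  · rw [hb, Set.ncard_coe_finset]
    show (Finset.univ.filter fun i : Fin HS100.P.n => adjB 0 i = true).card = 22
    decide +kernel
  · rw [hc, Set.ncard_coe_finset]
    show (Finset.univ.filter fun i : Fin HS100.P.n => adjB 0 i = false ∧ i ≠ p0).card = 77
    decide +kernel

theorem g100_center : Subgroup.center G100 = ⊥ := by
  obtain ⟨e⟩ := g100_isoHS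
  obtain ⟨i⟩ := HSIso.pairStab_equiv_hs
  haveI : IsSimpleGroup HSConfig.pairStab := ConwaySimple.isSimple_hs
  haveI : IsSimpleGroup G100 := ((e.trans i.symm).isSimpleGroup_congr).2 inferInstance
  refine (Subgroup.Normal.eq_bot_or_eq_top (inferInstance : (Subgroup.center G100).Normal)).resolve_right
    fun h => ?_
  have hw0 : evenW [0] = true := by decide +kernel
  have hw2 : evenW [2] = true := by decide +kernel
  have hm : (⟨_, word_in_g100 hw0⟩ : G100) ∈ Subgroup.center G100 := h ▸ Subgroup.mem_top _
  have hcomm := congrArg Subtype.val (Subgroup.mem_center_iff.1 hm ⟨_, word_in_g100 hw2⟩)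
  simp only [Subgroup.coe_mul] at hcomm
  have hall : allBelow 100 (fun i => Nat.beq (HS100.P.app [0, 2] i) (HS100.P.app [2, 0] i)) =
      false := by decide +kernel
  have hne : ¬ ∀ i : Fin HS100.P.n, perms100.act (perms100.val [0, 2]) i =
      perms100.act (perms100.val [2, 0]) i := by
    intro hh
    have hex : ∃ i, i < 100 ∧ HS100.P.app [0, 2] i ≠ HS100.P.app [2, 0] i := by
      by_contra hne
      push_neg at hne
      have : (List.range 100).all (fun i => Nat.beq (HS100.P.app [0, 2] i) (HS100.P.app [2, 0] i)) =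
          false := by decide +kernel
      refine absurd ?_ (Bool.eq_false_iff.1 this)
      simp only [List.all_eq_true, List.mem_range, Nat.beq_eq]
      exact hne
    obtain ⟨i, hi, hne'⟩ := hex
    refine hne' ?_
    have h1 := perms100.app_eq [0, 2] (by decide +kernel) ⟨i, hi⟩
    have h2 := perms100.app_eq [2, 0] (by decide +kernel) ⟨i, hi⟩
    exact h1.trans ((congrArg Fin.val (hh ⟨i, hi⟩)).trans h2.symm)
  refine hne fun i => ?_
  have := congrArg (fun p : Equiv.Perm (Fin HS100.P.n) => p i) hcomm
  show (perms100.π (perms100.val [0, 2]))⁻¹ i = (perms100.π (perms100.val [2, 0]))⁻¹ i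
  rw [show perms100.val [0, 2] = perms100.val [0] * perms100.val [2] from
      perms100.val_append [0] [2],
    show perms100.val [2, 0] = perms100.val [2] * perms100.val [0] from
      perms100.val_append [2] [0], map_mul, map_mul, mul_inv_rev, mul_inv_rev]
  exact this

theorem k0_center_eq : Subgroup.center K0 = hom100.ker := by
  obtain ⟨hfin, -⟩ := gk_bound
  refine le_antisymm (fun g hg => ?_) fun g hg => ?_
  · have hm : (⟨hom100 g, g, rfl⟩ : G100) ∈ Subgroup.center G100 := by
      rw [Subgroup.mem_center_iff]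
      rintro ⟨_, u, rfl⟩
      refine Subtype.ext ?_
      show hom100 u * hom100 g = hom100 g * hom100 u
      rw [← map_mul, ← map_mul, Subgroup.mem_center_iff.1 hg u]
    rw [g100_center, Subgroup.mem_bot] at hm
    exact congrArg Subtype.val hm
  · rw [Subgroup.mem_center_iff]
    intro u
    rcases ker100_card.2 g hg with h | h
    · rw [show g = 1 from Subtype.ext h, mul_one, one_mul]
    · refine Subtype.ext ?_
      show (u : GrpK) * g = g * u
      rw [h]
      exact zK_central u

theorem k0_double_cover : Cfsg.IsNonsplitDoubleCover K0 Cfsg.Spor.HS := by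
  obtain ⟨hfin, -⟩ := gk_bound
  obtain ⟨e⟩ := g100_isoHS
  have hc : Nat.card (Subgroup.center K0) = 2 := by rw [k0_center_eq]; exact ker100_card.1
  refine ⟨hc, ⟨(QuotientGroup.quotientMulEquivOfEq k0_center_eq).trans
    ((QuotientGroup.quotientKerEquivRange hom100).trans e)⟩, fun L hL => ?_⟩
  have hidx : L.index = 2 := by
    have := hL.index_eq_card
    omega
  have hx : (⟨_, even_mem (w := [0]) (by decide +kernel)⟩ : K0) ^ 2 ∈ L :=
    Subgroup.sq_mem_of_index_two hidx _
  have hz : (⟨_, even_mem (w := [0]) (by decide +kernel)⟩ : K0) ^ 2 = ⟨zK, zK_mem⟩ := by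
    refine Subtype.ext ?_
    show (permsK.val [0]) ^ 2 = zK
    rw [pow_two, zK, ← permsK.val_append]
    rfl
  rw [hz] at hx
  have hzc : (⟨zK, zK_mem⟩ : K0) ∈ Subgroup.center K0 :=
    Subgroup.mem_center_iff.2 fun u => Subtype.ext (zK_central u)
  have := Subgroup.disjoint_def.1 hL.disjoint hzc hx
  exact zK_ne (congrArg Subtype.val this)

/-- a non-split double cover stays one under isomorphism -/
theorem nonsplit_transport {H H' K : Type*} [Group H] [Group H'] [Group K] (e : H ≃* H')
    (h : Cfsg.IsNonsplitDoubleCover H K) : Cfsg.IsNonsplitDoubleCover H' K := by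
  obtain ⟨h1, ⟨f⟩, h3⟩ := h
  have hc : (Subgroup.center H).map e.toMonoidHom = Subgroup.center H' := by
    ext x
    rw [Subgroup.mem_map]
    constructor
    · rintro ⟨y, hy, rfl⟩
      rw [Subgroup.mem_center_iff]
      intro g
      obtain ⟨g', rfl⟩ := e.surjective g
      show e g' * e y = e y * e g'
      rw [← map_mul, ← map_mul, Subgroup.mem_center_iff.1 hy g']
    · intro hx
      refine ⟨e.symm x, Subgroup.mem_center_iff.2 fun g => e.injective ?_, e.apply_symm_apply x⟩
      rw [map_mul, map_mul, e.apply_symm_apply, Subgroup.mem_center_iff.1 hx (e g)]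
  refine ⟨?_, ⟨(QuotientGroup.congr _ _ e hc).symm.trans f⟩, fun L hL => h3 (L.comap e.toMonoidHom) ?_⟩
  · rw [← hc, ← h1]
    exact (Nat.card_congr ((Subgroup.center H).equivMapOfInjective _ e.injective).toEquiv).symm
  · rw [Subgroup.isComplement'_def, Subgroup.isComplement_iff_existsUnique] at hL ⊢
    intro g
    obtain ⟨⟨a, b⟩, hab, huniq⟩ := hL (e g)
    have ha : (a : H') ∈ (Subgroup.center H).map e.toMonoidHom := hc.symm ▸ a.2
    obtain ⟨a', ha', ea⟩ := ha
    refine ⟨(⟨a', ha'⟩, ⟨e.symm b, show e (e.symm b) ∈ L by rw [e.apply_symm_apply]; exact b.2⟩),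
      ?_, ?_⟩
    · apply e.injective
      show e (a' * e.symm b) = e g
      rw [map_mul, e.apply_symm_apply, show e a' = a from ea]
      exact hab
    · rintro ⟨⟨c, hcc⟩, ⟨d, hd⟩⟩ hcd
      have hec : e c ∈ Subgroup.center H' := hc ▸ Subgroup.mem_map_of_mem _ hcc
      have := huniq (⟨e c, hec⟩, ⟨e d, hd⟩) (by
        show e c * e d = e g
        rw [← map_mul]
        exact congrArg e hcd)
      simp only [Prod.mk.injEq, Subtype.ext_iff] at this ⊢
      exact ⟨e.injective (this.1.trans ea.symm), e.injective (this.2.trans (e.apply_symm_apply _).symm)⟩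

section transport

variable {H : Type*} [Group H] (e : GrpK ≃* H)

theorem k0_map_normal : (K0.map e.toMonoidHom).Normal :=
  Subgroup.Normal.map (MonoidHom.normal_ker _) _ e.surjective

theorem k0_map_index : (K0.map e.toMonoidHom).index = 2 := by
  exact (Subgroup.index_map_equiv K0 e).trans k0_index

theorem k0_map_cover : Cfsg.IsNonsplitDoubleCover (K0.map e.toMonoidHom) Cfsg.Spor.HS :=
  nonsplit_transport (K0.equivMapOfInjective e.toMonoidHom e.injective) k0_double_cover

end transport

end CfsgLib.Spor.HN
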