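import Cfsg.Agent.Lib.Spor.HN.KOrder
import Cfsg.Agent.Lib.Spor.HN.GKOrders

/-!
The group on `x, y, z` has order 177408000 and acts faithfully on 1408 points.
-/

namespace CfsgLib.Spor.HN

open CfsgLib.PresCert CfsgLib.DCE

private theorem rels_k : okRels GK.P RK = true := by decide +kernel

/-- the representation of the group on `x, y, z` on 1408 points -/
noncomputable def permsK : Perms GK.P GrpK :=
  Perms.ofGrp (m := 3) rfl GK.pair_ok rels_k

theorem gk_finite : Finite GrpK := gk_bound.1

theorem lens_k : (GK.ls.map WLevel.len).prod = 177408000 := by decide +kernel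

theorem bases_k : GK.ls.map WLevel.base = GK.base := by decide +kernel

theorem gen_top_k : Subgroup.closure (Set.range permsK.gen) = ⊤ := Grp.closure_gen

theorem k_faithful :
    (∀ h : GrpK, (∀ i : Fin GK.P.n, (i : Nat) ∈ GK.base → permsK.act h i = i) → h = 1) ∧
      Nat.card GrpK = 177408000 := by
  obtain ⟨hfin, h⟩ := gk_bound
  have := permsK.wfaithful GK.ls GK.levels_ok (by rw [lens_k]; exact h)
  rw [lens_k, bases_k] at this
  exact this

theorem k_injective : Function.Injective permsK.π := by
  refine (injective_iff_map_eq_one _).2 fun h hh => k_faithful.1 h fun i _ => ?_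
  simp [Perms.act, hh]

theorem base_lt_k : ∀ b ∈ GK.base, b < GK.P.n := by decide +kernel

/-- a lower bound for the order of a subgroup of the group on `x, y, z` -/
theorem k_sub_card {ws : List (List Nat)} {els : List (List Nat × List Nat)}
    (he : okEls GK.P GK.base ws els = true) (ls : List WLevel)
    (hl : okWLevels GK.P [] ls = true)
    (hg : (ls.all fun L => L.gens.all fun w => (ws ++ els.map Prod.fst).contains w) = true) :
    (ls.map WLevel.len).prod ≤ Nat.card (permsK.sub ws) := by
  obtain ⟨hfin, -⟩ := gk_bound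
  exact permsK.wsub_card k_faithful.1 base_lt_k he ls hl hg

theorem k_edgeStab : ∀ h : GrpK,
    (∀ i : Fin GK.P.n, (i : Nat) = GK.E0L0.base → permsK.act h i = i) →
      h ∈ permsK.sub GK.V0ws := by
  obtain ⟨hfin, -⟩ := gk_bound
  exact permsK.wstab_eq k_faithful.2 GK.E0L0 GK.e0_levels GK.e0_fix (v := 126000)
    (le_trans (by decide +kernel : 126000 ≤ (GK.V0ls.map WLevel.len).prod)
      (k_sub_card GK.v0_els GK.V0ls GK.v0_levels GK.v0_gens))
    (by decide +kernel)

end CfsgLib.Spor.HN
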