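import Cfsg.Agent.Lib.Spor.HN.KLPerm

/-!
Double coset enumeration (generated data).
-/

namespace CfsgLib.Spor.HN.KL

open CfsgLib.PresCert CfsgLib.DCE

/-- the base -/
def base : List Nat := [0, 1, 2, 428]

/-- the edge elements -/
def edges : List Edge :=
  [⟨378, [[0],
  [2, 0, 2, 0, 2, 2, 0, 3]], [[1],
  [2, 0, 2, 0, 2, 2, 0, 3, 1, 1]]⟩]

/-- the setup -/
noncomputable def S : Setup where
  P := P
  base := base
  edges := edges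
  lets := [(0, [])]
  linv := [1, 0, 3, 2, 4]
  rels := [[4, 3, 1, 3, 1, 3, 3, 3, 4, 2, 2, 2, 0, 2, 0, 2, 0, 3, 1, 3, 1, 3, 3, 3, 4, 2, 2, 2, 0, 2, 0, 2, 0, 3, 1, 3, 1, 3, 3, 3, 4, 2, 2, 2, 0, 2, 0, 2, 0],
  [4, 2, 1, 3, 3, 1, 3, 1, 3, 4, 2, 0, 2, 0, 2, 2, 0, 3, 1, 1],
  [4, 0, 4, 0],
  [1, 3, 1, 3, 1, 3, 3, 3, 4, 2, 2, 2, 0, 2, 0, 2, 1, 3, 1, 3, 1, 3, 3, 3, 4, 2, 2, 2, 0, 2, 0, 2, 1, 3, 1, 3, 1, 3, 3, 3, 4, 2, 2, 2, 0, 2, 0, 2, 4],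
  [0, 0, 2, 1, 3, 3, 1, 3, 1, 3, 4, 2, 0, 2, 0, 2, 2, 0, 3, 4],
  [1, 4, 1, 4],
  [4, 4],
  []]
  defs := [(0, 0, []),
    (1, 0, [3, 1, 3]),
    (2, 0, [3]),
    (1, 0, []),
    (3, 0, [])]

/-- facts -/
def facts0 : List Fact :=
  [⟨0, 0, 0, 0, [0], [0], [], .base⟩,
   ⟨0, 0, 0, 0, [2], [2], [], .base⟩,
   ⟨1, 0, 1, 0, [], [], [], .defEdge⟩,
   ⟨0, 1, 1, 0, [0], [1], [], .loop 0 [0] 6 0 1 false [.stab 0 true, .edge 2 []] [.edge 2 [0]] []⟩,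
   ⟨0, 1, 1, 0, [3, 0, 3, 3, 0, 3], [3, 0, 3, 3, 0, 3], [], .loop 0 [3, 3, 0, 2, 2, 2, 1, 2, 2, 2] 6 0 1 false [.stab 1 true, .edge 2 [0, 0, 1, 0, 1, 1, 1, 1, 0, 1, 1, 0, 1, 1, 0, 1]] [.stab 0 false, .stab 1 false, .stab 1 false, .stab 0 false, .stab 1 false, .edge 2 [0, 0, 0, 1, 0, 1, 1, 1, 1, 0, 1, 0, 1, 1, 1, 0, 1, 0]] []⟩,
   ⟨1, 1, 2, 0, [], [], [3, 1, 3], .defEdge⟩,
   ⟨0, 2, 2, 0, [2, 0, 2, 2, 0, 2], [2, 0, 2, 2, 0, 2], [], .loop 1 [3, 0, 3, 3, 0, 3, 3, 1, 3] 6 0 1 false [.stab 4 true, .edge 5 []] [.edge 5 [0, 1, 1, 1, 0, 1, 0, 1, 1, 1, 0, 1, 0, 1, 0, 1, 1, 1, 0, 1]] []⟩,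
   ⟨0, 2, 2, 0, [2, 0, 2, 0, 3, 1, 3], [0], [], .loop 1 [0, 3, 1, 3] 6 0 1 false [.stab 3 true, .edge 5 []] [.edge 5 [0, 0, 1, 0, 1, 1, 0, 1, 1, 1, 1, 0, 1, 1, 0]] []⟩,
   ⟨1, 2, 1, 0, [2, 2, 2, 0, 2, 2, 0, 3, 0, 2, 2, 2, 0, 3, 3], [2, 0, 2, 0, 2, 0, 3, 0, 3, 0, 3, 3, 0, 2, 0, 2, 0, 2, 0, 3], [1, 2, 2, 2], .loop 0 [2, 2, 0, 2, 0, 2, 2, 0, 3, 3, 0, 2, 0, 3, 3, 1, 2] 3 45 28 false [.lett 2, .lett 0, .lett 2, .stab 1 false, .stab 0 false, .stab 1 false, .stab 1 false, .stab 0 false, .stab 1 false, .stab 1 false, .stab 1 false, .edge 2 [0, 1, 0, 1, 1, 1, 0, 1, 1, 0, 1, 1, 1, 0, 1, 1, 1, 1, 1], .lett 1, .lett 3, .lett 1, .lett 3, .lett 1, .lett 3, .lett 3, .lett 3, .edge 5 [0, 0, 1, 1, 1, 1, 0, 1, 1, 1, 0, 1, 0, 1, 0, 1, 0, 1, 1, 0, 1], .lett 2, .lett 2, .lett 2, .lett 0, .lett 2, .lett 0, .lett 2, .lett 1, .lett 3, .lett 1, .lett 3, .lett 1, .lett 3, .lett 3, .lett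 3] [.lett 1, .lett 3, .lett 3, .lett 3, .stab 1 false, .stab 1 false, .stab 0 false, .stab 1 false, .stab 1 false, .stab 1 false, .stab 0 false, .stab 1 false, .stab 1 false, .edge 2 [0, 0, 1, 1, 1, 1, 1, 0, 1, 1, 1, 0, 1, 0, 1, 1, 1, 0, 1, 0, 1], .lett 2, .lett 2, .lett 2, .lett 0, .lett 2, .lett 0, .lett 2, .lett 0, .lett 3, .lett 1, .lett 3, .lett 1, .lett 3, .lett 3, .lett 3] [0, 0, 0, 1, 1, 0, 1, 0, 1, 1, 1, 1, 1, 1, 0, 1, 0, 1, 0]⟩,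
   ⟨1, 1, 2, 0, [0, 3, 0, 2, 0, 2, 2, 0, 2, 2, 0, 3, 3, 0, 3, 0, 2, 2, 2], [3, 0, 3, 0, 2, 0, 2, 0, 3, 0, 3, 3, 0, 2, 0, 3, 3, 0, 2, 0, 2, 2], [2, 0, 3, 0, 3, 3], .loop 0 [0, 3, 0, 2, 0, 3, 3, 0, 3, 0, 3, 3, 0, 2, 2, 0, 2, 2, 1, 3] 0 17 23 false [.lett 3, .lett 1, .lett 3, .lett 1, .lett 3, .lett 3, .lett 3, .stab 1 false, .stab 0 false, .stab 1 false, .stab 0 false, .stab 1 false, .stab 1 false, .stab 0 false, .stab 1 false, .stab 0 false, .stab 1 false, .stab 1 false, .stab 1 false, .edge 2 [1, 1, 1, 0, 1, 0, 1, 1, 1, 0, 1, 0, 1, 1, 1, 1], .lett 2, .lett 2, .lett 2, .lett 0, .lett 2, .lett 0, .lett 2, .lett 0, .lett 3, .lett 1, .lett 3, .lett 1, .lett 3, .lett 3, .lett 3, .stab 4 false, .stab 4 false, .stab 3 false] [.lett 1, .lett 3, .lett 1, .lett 3, .lett 1, .lett 3, .lett 3, .lett 3, .stab 1 false, .stab 1 false, .edge 2 [0, 0, 0, 1, 1, 0, 1, 1, 0, 1, 1,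 1, 1, 1, 1, 0, 1], .lett 2, .lett 2, .lett 2, .lett 0, .lett 2, .lett 0, .lett 2, .edge 5 [0, 0, 0, 1, 0, 1, 0, 1, 0, 1, 1, 1, 1, 1, 1, 1], .lett 1, .lett 3, .lett 1, .lett 3, .lett 1, .lett 3, .lett 3, .lett 3] [0, 1, 1, 1, 0, 1, 1, 1, 1, 1, 1, 0, 1, 1, 1, 0]⟩,
   ⟨1, 2, 1, 0, [2, 2, 0, 2, 0, 3, 0, 2, 2, 2, 0, 3, 0, 2, 2, 0, 3, 3, 1, 3], [0, 3, 3, 0, 2, 2, 0, 2, 2, 0, 3, 3, 0, 2, 0, 3, 3, 0, 3, 0, 2], [], .loop 0 [0, 3, 3, 0, 2, 0, 2, 2, 2, 0, 2, 2, 0, 2, 0, 2, 1] 0 15 34 false [.lett 2, .lett 0, .lett 3, .lett 1, .lett 3, .lett 1, .lett 3, .lett 3, .lett 3, .stab 1 false, .stab 0 false, .stab 1 false, .stab 0 false, .stab 1 false, .stab 0 false, .stab 1 false, .stab 1 false, .stab 0 false, .stab 1 false, .stab 0 false, .stab 1 false, .stab 1 false, .stab 1 false, .edge 2 [0, 0, 0, 1, 1, 1, 1, 1, 1, 1, 1, 0, 1, 1, 1], .lett 2, .lett 2, .lett 2, .lett 0, .lett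 2, .lett 0, .lett 2, .lett 0, .lett 3, .lett 1, .lett 3, .lett 1, .lett 3, .lett 3, .lett 3, .edge 9 [0, 0, 1, 1, 1, 0, 1, 0, 1, 1, 0, 1, 1, 1, 1, 0, 1, 1], .lett 2, .lett 2, .lett 2, .lett 0, .lett 2, .lett 0, .lett 2, .lett 0] [.lett 1, .lett 3, .lett 1, .lett 3, .lett 3, .lett 3, .stab 0 false, .stab 1 false, .edge 2 [0, 1, 0, 1, 1, 0, 1, 1, 0, 1, 1, 0, 1, 1], .lett 2, .lett 2, .lett 2, .lett 0, .lett 2, .lett 0, .lett 2] [0, 1, 1, 1, 1, 1, 1, 1, 0, 1, 0, 1, 0, 1, 0, 1, 0, 1]⟩,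
   ⟨1, 1, 2, 0, [0, 2, 2, 0, 3, 3, 0, 3, 3, 0, 2, 2, 0, 3, 0, 2, 2, 0, 2, 0, 3], [3, 0, 2, 0, 3, 3, 0, 2, 2, 0, 2, 2, 0, 3, 3, 0, 2, 0, 3, 3, 1, 3], [2, 1, 3, 3], .loop 0 [3, 3, 0, 3, 3, 0, 2, 0, 2, 0, 3, 0, 2, 2, 0, 2, 2, 0] 0 43 14 false [.lett 2, .lett 0, .lett 2, .lett 0, .lett 2, .lett 0, .stab 1 false, .stab 1 false, .edge 2 [1, 1, 1, 0, 1, 1, 1, 0, 1, 0, 1, 1, 1, 0, 1, 1, 1, 0, 1, 1], .lett 3, .lett 1, .lett 3, .lett 1, .lett 3, .lett 3, .lett 3] [.lett 3, .lett 3, .stab 1 false, .stab 1 false, .stab 1 false, .stab 1 false, .stab 0 false, .stab 1 false, .stab 1 false, .stab 0 false, .stab 1 false, .stab 0 false, .stab 1 false, .stab 1 false, .stab 1 false, .edge 2 [0, 0, 0, 1, 0, 1, 1, 1, 1, 1, 0, 1, 1, 1, 0, 1, 1, 0, 1, 1], .lett 2, .lett 2, .lett 2, .lett 0, .lett 2, .lett 0, .lett 2, .lett 1, .lett 3, .lett 1, .lett 3, .lett 1, .lett 3, .lett 3, .lett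 3, .edge 9 [1, 0, 1, 1, 1, 0, 1, 0, 1, 0, 1, 1, 1, 0, 1], .lett 2, .lett 2, .lett 2, .lett 0, .lett 2, .lett 0, .lett 2, .lett 1, .lett 3, .lett 1, .lett 3, .lett 1, .lett 3, .lett 3, .lett 3] [0, 0, 1, 1, 0, 1, 0, 1, 1, 1, 0, 1, 0, 1, 0, 1, 1]⟩,
   ⟨1, 1, 2, 0, [0, 2, 0, 2, 0, 2, 2, 0, 2, 2, 2, 0, 3, 3, 0, 3, 0, 2, 2, 2, 0], [2, 2, 0, 2, 0, 2, 0, 3, 3, 0, 2, 2, 0, 2, 0, 3, 3, 0, 3, 3, 0, 2], [3], .loop 0 [2, 2, 0, 2, 0, 3, 3, 0, 3, 3, 0, 3, 0, 3, 3] 0 20 20 false [.lett 1, .lett 3, .lett 3, .lett 3, .stab 0 false, .stab 1 false, .stab 1 false, .stab 1 false, .stab 1 false, .edge 2 [0, 0, 1, 1, 0, 1, 1, 1, 0, 1, 0, 1, 1, 0, 1, 0, 1, 0, 1], .lett 2, .lett 2, .lett 2, .lett 0, .lett 2, .lett 0, .lett 2, .lett 0, .lett 3, .lett 1, .lett 3, .lett 1, .lett 3, .lett 3, .lett 3, .stab 4 false, .stab 4 false] [.lett 2, .lett 0, .lett 2, .lett 1, .lett 3, .lett 1, .lett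 3, .lett 1, .lett 3, .lett 3, .lett 3, .stab 1 false, .stab 0 false, .stab 1 false, .stab 1 false, .stab 1 false, .stab 1 false, .edge 2 [1, 1, 1, 0, 1, 1, 1, 0, 1, 1, 0, 1, 1, 1], .lett 2, .lett 2, .lett 2, .lett 0, .lett 2, .lett 0, .lett 2, .edge 11 [1, 1, 0, 1, 0, 1, 0, 1, 0, 1, 1, 1, 0, 1, 1, 1, 1, 1, 1], .lett 1, .lett 3, .lett 1, .lett 3, .lett 1, .lett 3, .lett 3, .lett 3] [0, 0, 1, 1, 1, 1, 1, 0, 1, 0, 1, 1, 0, 1, 1, 1, 1, 1]⟩,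
   ⟨0, 2, 2, 0, [3, 0, 3, 3, 0, 3, 0, 2, 0, 2, 0, 3, 1, 3], [3, 0, 3, 3, 0, 3, 3, 0, 3, 0, 2, 0, 2, 1], [], .loop 2 [0, 2, 2, 0, 2, 2, 0, 2, 0, 3, 3, 0, 2, 2, 2, 0, 2, 0, 3, 0, 3, 0, 2, 2, 2, 0] 2 0 4 false [.stab 7 false, .edge 8 [1, 0, 1, 0, 1, 1, 1, 1, 1, 1, 0, 1, 1, 1, 1, 1, 0, 1, 1, 1], .lett 0, .stab 3 false, .stab 4 false, .stab 4 false, .stab 3 false, .stab 4 false, .stab 4 false, .stab 3 false, .stab 4 false, .edge 12 [1, 1, 1, 1, 0, 1, 0, 1, 1, 1, 0], .lett 0] [] []⟩,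
   ⟨0, 1, 1, 0, [0, 3, 0, 3, 3, 0, 2, 0, 3, 3, 0, 2, 2, 0, 3, 0, 2, 2, 0, 3, 0, 3], [0, 3, 0, 3, 3, 0, 2, 0, 3, 3, 0, 2, 2, 0, 3, 0, 2, 2, 0, 3, 1, 3], [], .loop 1 [0, 3, 0, 3, 3, 0, 2, 0, 2, 2, 0, 2, 2, 0, 3, 0, 3, 3, 0, 3, 3, 1] 1 15 20 false [.lett 2, .lett 0, .lett 3, .lett 1, .lett 1, .stab 3 false, .stab 4 false, .stab 4 false, .stab 4 false, .edge 12 [0, 1, 1, 1, 1, 1, 1, 1, 0, 1, 1, 1, 1, 1, 0, 1, 0, 1, 1, 0, 1], .lett 2, .lett 1, .lett 3, .lett 3, .lett 1, .lett 3, .lett 1, .lett 3, .stab 13 false, .stab 6 false, .edge 8 [0, 1, 0, 1, 1, 0, 1, 1, 0, 1, 1, 1, 1, 1, 0], .lett 2, .lett 0, .lett 2, .lett 0, .lett 2] [] []⟩,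
   ⟨0, 2, 2, 0, [0, 2, 0, 2, 2, 0, 2, 0, 3, 3, 0, 2, 0, 2, 0, 2, 2, 2, 1, 3], [3, 0, 3, 0, 2, 0, 2, 2, 0, 2, 0, 3, 3, 0, 2, 0, 2, 0, 3, 3], [], .loop 0 [3, 3, 0, 3, 0, 3, 3, 0, 2, 2, 0, 2, 0, 2, 0, 3, 0, 3, 1] 3 19 29 false [.lett 3, .lett 1, .lett 3, .lett 3, .lett 3, .stab 1 false, .stab 0 false, .stab 1 false, .stab 1 false, .stab 0 false, .stab 1 false, .stab 1 false, .stab 1 false, .edge 2 [0, 1, 0, 1, 1, 1, 1, 1, 1, 1, 1, 0, 1, 1, 0, 1, 1, 0, 1], .lett 2, .lett 2, .lett 2, .lett 0, .lett 2, .lett 0, .lett 2, .lett 1, .lett 3, .lett 1, .lett 3, .lett 1, .lett 3, .lett 3, .lett 3, .stab 4 false, .edge 12 [0, 1, 0, 1, 1, 0, 1, 0, 1, 1, 0, 1, 1, 0, 1, 1, 1, 1, 1, 0], .lett 2, .lett 2, .lett 2, .lett 0, .lett 2, .lett 0, .lett 2] [.lett 0, .lett 2, .lett 0, .lett 3, .lett 1, .lett 3, .lett 1, .lett 3, .lett 3, .lett 3, .stab 1 false, .stab 0 false, .stab 1 false,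 .stab 1 false, .stab 1 false, .stab 1 false, .edge 2 [0, 0, 0, 1, 0, 1, 0, 1, 1, 1, 1, 1, 1, 0, 1, 1, 1, 1, 1, 1, 1], .lett 2, .lett 2, .lett 2, .lett 0, .lett 2, .lett 0, .lett 2, .lett 0, .stab 14 false, .edge 5 [1, 0, 1, 0, 1, 1, 0, 1, 1, 0, 1, 0, 1, 1, 1, 1, 0, 1]] []⟩,
   ⟨0, 1, 1, 0, [0, 2, 2, 0, 2, 2, 0, 2, 0, 3, 3, 0, 3, 0, 2, 2, 0, 2, 2, 0, 2, 2, 0, 2, 1], [0, 3, 0, 2, 2, 0, 3, 3, 0, 3, 0, 2, 2, 0, 3, 3, 0, 3, 0, 3, 0, 2, 2, 1, 3], [], .loop 1 [2, 0, 2, 0, 3, 0, 2, 2, 0, 3, 0, 3, 0, 2, 2, 0, 2, 2, 0, 2, 2] 2 3 4 false [.lett 0, .stab 3 false, .edge 9 [1, 1, 0, 1, 1, 0, 1, 1, 1, 0, 1, 0, 1, 1, 1, 1], .lett 0, .stab 13 false, .stab 15 false, .edge 8 [0, 1, 0, 1, 1, 0, 1, 0, 1, 1, 1, 0, 1, 0, 1, 1, 0]] [] []⟩,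
   ⟨1, 2, 3, 0, [], [], [3], .defEdge⟩,
   ⟨0, 3, 3, 0, [0, 2, 0, 3, 0, 3, 0, 2, 2, 0, 3, 0, 3, 3, 0, 3, 0, 3], [3, 0, 3, 0, 3, 0, 2, 0, 3, 3, 0, 2, 2, 0, 3, 0, 3, 3, 0, 3, 0, 2, 0, 2], [], .loop 2 [2, 0, 2, 0, 3, 0, 3, 0, 3, 3, 0, 2, 2, 0, 3, 3, 0, 2, 1] 6 0 1 false [.stab 6 true, .edge 17 [0, 1, 1, 0, 1, 1, 1, 1, 1, 1, 0, 1, 0, 1, 0, 1, 1, 1]] [.stab 15 false, .edge 17 [0, 0, 0, 1, 1, 0, 1, 0, 1, 1, 0, 1, 0, 1, 1, 1, 1, 1]] []⟩,
   ⟨0, 3, 3, 0, [2, 0, 2, 0, 2, 0, 2, 2, 0, 3, 3, 0, 2, 2, 0, 3], [3, 0, 3, 0, 2, 0, 2, 0, 2, 2, 0, 3, 3, 0, 2, 2, 0, 2, 0, 2], [], .loop 2 [3, 0, 3, 3, 0, 2, 0, 3, 3, 0, 3, 3, 0, 3, 3, 0, 2, 0, 2] 6 0 1 false [.stab 15 true, .edge 17 [0, 0, 1, 0, 1, 1, 1, 1, 0, 1, 0, 1, 1, 0, 1, 0, 1, 0, 1, 1, 0]] [.stab 7 false, .stab 6 false, .stab 7 false, .edge 17 [1, 1, 0, 1, 1, 0, 1, 0, 1, 0, 1, 1, 1, 1, 1, 1, 0, 1, 1]] []⟩,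
   ⟨0, 3, 3, 0, [3, 0, 3, 0, 2, 2, 2, 0, 2, 2, 0, 3, 3, 0, 3], [0, 2, 0, 2, 0, 3, 0, 2, 2, 0, 2, 2, 0, 2, 2, 2, 0, 3, 0, 3, 0, 2, 0, 2, 2], [], .loop 1 [2, 0, 2, 0, 2, 0, 2, 2, 2, 0, 2, 2, 2, 0, 2, 0, 2, 0, 2, 2, 0, 2, 0] 0 22 27 false [.lett 3, .lett 3, .stab 4 false, .stab 14 false, .stab 16 false, .edge 12 [0, 0, 1, 1, 1, 0, 1, 0, 1, 1, 0, 1, 1, 1, 1, 1, 0, 1, 1, 1], .lett 2, .lett 2, .lett 2, .lett 0, .lett 2, .lett 0, .lett 2, .lett 0, .lett 3, .lett 1, .lett 3, .lett 1, .lett 3, .lett 3, .lett 3, .stab 6 false, .stab 13 false, .stab 13 false, .edge 17 [0, 0, 0, 1, 0, 1, 1, 1, 1, 1, 0, 1, 1, 1, 0, 1, 0, 1, 0, 1, 1], .lett 2, .lett 2, .lett 2, .lett 0, .lett 2, .lett 0, .lett 2, .lett 0] [.lett 2, .lett 0, .lett 2, .lett 0, .lett 2, .lett 1, .lett 3, .lett 1, .lett 3, .lett 1, .lett 3, .lett 3, .lett 3, .stab 3 false, .stab 16 false, .stab 3 false, .edge 12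 [0, 1, 1, 1, 0, 1, 1, 0, 1, 1, 1, 0, 1, 0, 1, 0, 1, 1, 1, 0], .lett 2, .lett 2, .lett 2, .lett 0, .lett 2, .lett 0, .lett 2, .stab 7 false, .stab 15 false, .stab 6 false, .edge 17 [0, 1, 1, 0, 1, 0, 1, 1, 0, 1, 1, 1, 1, 1, 0, 1, 0, 1, 1]] []⟩,
   ⟨0, 3, 3, 0, [3, 0, 2, 2, 2, 0, 2, 0, 2, 0, 2, 2, 0, 3, 3, 0, 2, 0, 2, 2, 0, 3, 3, 0, 2, 1], [2, 0, 2, 2, 2, 0, 2, 0, 2, 0, 3, 3, 0, 2, 0, 2, 2, 0, 2, 0, 2, 0, 3, 3], [], .loop 1 [3, 0, 3, 0, 2, 0, 2, 0, 3, 0, 3, 0, 2, 2, 2, 0, 3, 0, 3, 0, 2, 2, 1, 2] 0 46 27 false [.lett 0, .lett 2, .lett 0, .stab 16 false, .stab 14 false, .stab 16 false, .edge 12 [0, 0, 1, 1, 1, 1, 1, 1, 1, 0, 1], .lett 3, .lett 1, .lett 3, .lett 1, .lett 3, .lett 3, .lett 3, .stab 13 false, .stab 15 false, .stab 13 false, .edge 17 [1, 1, 0, 1, 0, 1, 0, 1, 0, 1, 1, 0, 1, 1, 0, 1, 0], .lett 2, .lett 2, .lett 2, .lett 0, .lett 2, .lett 0, .lett 2, .lett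 0, .lett 3, .lett 1, .lett 3, .lett 1, .lett 3, .lett 3, .lett 3] [.lett 3, .lett 1, .lett 3, .lett 3, .lett 3, .stab 3 false, .stab 4 false, .edge 12 [0, 0, 1, 1, 1, 1, 1, 0, 1, 0, 1, 1, 1, 0, 1, 1, 1, 1, 1, 1], .lett 2, .lett 2, .lett 2, .lett 0, .lett 2, .lett 0, .lett 2, .lett 1, .lett 3, .lett 1, .lett 3, .lett 1, .lett 3, .lett 3, .lett 3, .stab 15 false, .stab 7 false, .edge 17 [0, 0, 0, 1, 0, 1, 1, 1, 1, 1, 1, 1, 1, 1, 1, 1]] []⟩,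
   ⟨1, 1, 4, 0, [], [], [], .defEdge⟩,
   ⟨0, 4, 4, 0, [0, 3, 0, 3, 3, 0, 3, 3, 0, 3, 3, 0, 2, 0, 2, 2, 0, 3, 0, 3, 3, 0, 3, 3, 1], [2, 0, 3, 3, 0, 2, 0, 2, 0, 2, 2, 0, 3, 3, 0, 2, 0, 2, 2, 0, 3, 3, 0, 2, 1], [], .loop 1 [0, 2, 2, 0, 2, 2, 0, 2, 0, 3, 3, 0, 3, 0, 2, 2, 0, 2, 2, 0, 2, 2, 0, 2, 1] 6 0 1 false [.stab 16 true, .edge 22 []] [.edge 22 [1, 1, 1, 1, 1, 0, 1, 1, 0, 1, 1, 1, 1, 1, 1, 1]] []⟩,
   ⟨2, 4, 0, 0, [2, 2, 0, 2, 2, 2, 0, 2, 0], [0, 3, 0, 2, 2, 2, 1, 3, 3], [], .loop 0 [3, 0, 3, 0, 2, 0, 2, 0, 2, 2, 0, 2, 0, 3, 3, 0, 3, 0, 2, 2, 1, 2, 2] 5 0 4 false [.lett 1, .stab 0 false, .stab 1 false, .stab 0 false, .stab 1 false, .stab 1 false, .stab 1 false, .stab 0 false, .stab 1 false, .stab 1 false, .edge 2 [1, 1, 1, 0, 1, 0, 1, 1, 1, 1, 1, 0, 1, 0, 1, 0, 1, 0, 1], .lett 1, .edge 22 [1, 0, 1, 1, 1, 1, 1, 1, 1, 0, 1, 1, 1, 0, 1, 1, 0, 1]] [] []⟩,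
   ⟨0, 0, 0, 0, [0, 2, 0, 2, 0, 2, 0, 3, 0, 3, 3, 0, 2, 2, 0, 2, 0, 2, 2, 0, 2, 1], [3, 0, 3, 0, 2, 2, 0, 2, 2, 0, 2, 2, 0, 2, 0, 2, 2, 0, 3, 3, 0, 2], [], .loop 4 [0, 3, 0, 3, 3, 0, 3, 3, 0, 3, 3, 0, 2, 0, 2, 2, 0, 3, 0, 3, 3, 0, 3, 3, 1] 7 0 0 false [.stab 23 true, .coin 24] [.coin 24] []⟩,
   ⟨1, 3, 5, 0, [], [], [], .defEdge⟩,
   ⟨2, 5, 2, 0, [3, 0, 3, 3, 0, 3, 3, 0, 3, 0, 2, 0, 2, 0, 2, 0, 2, 2, 1, 2], [0, 2, 0, 2, 0, 2, 0, 2, 2, 0, 2, 2, 0], [], .loop 2 [0, 2, 0, 2, 2, 2, 0, 2, 0, 3, 0, 3, 3, 0, 2, 2, 0, 2, 0, 3, 3, 0, 2, 0] 5 3 4 false [.stab 6 false, .stab 13 false, .edge 17 [0, 0, 1, 1, 1, 0, 1, 0, 1, 1, 1, 0, 1, 1, 1, 0], .lett 1, .edge 26 [0, 0, 1, 1, 1, 0, 1, 0, 1, 1, 1, 0, 1, 1, 1], .lett 1] [] []⟩]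

/-- facts -/
def facts : List Fact := facts0

noncomputable def cls0_0 : BTree := (.node (.node (.node (.node (.leaf 0x0) (.leaf 0x0)) (.node (.leaf 0x0) (.leaf 0x1c06640050000000540684001000000018066400100000009c065400500000003c067c005000000084069c06500000000805e806500000003806740050000000b80644005000000090067800500000005806840650000000940678065000000068060c065000000050060406500000007006600050000000a006540650000000b0064c00500000009806540010000000c0065000500000008c06480010000000ac061c0050000000a806140050000000a406140010000000c40628005000000060060c001000000040067c06500000005c060800500000007c06a806500000003005f800500000002c05f800100000002405f4005000000064060c005))) (.node (.node (.leaf 0x0) (.leaf 0x0)) (.node (.leaf 0x0) (.leaf 0x0)))) (.node (.node (.node (.leaf 0x0) (.leaf 0x0)) (.node (.leaf 0x0) (.leaf 0x7806a800500000004406a400100000002006640650000000b4069800500000004806a400500000006c068c00500000001405ec065000000080069c00100000003406940010000000bc068000100000002805f4065000000074066c005)))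 (.node (.node (.leaf 0x0) (.leaf 0x4c060400500000001005ec00500000000c05ec00100000008805fc00100000000405e8005000000000000000b00000000000000000000000000000000000000000000000000000000000000000000000000000000000000000000000000000000000000000000000000000000000000000000000000000000000000000000000000000000000000000000000000000000000000000000000000000000000000000000000000000000000000000000000000000000000000000000000000000000000000000000000000000000000000000000000000000000000000000000000000000000000000000000000000000000000000000000000000000000)) (.node (.leaf 0x0) (.leaf 0x0)))))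

/-- a living orbit -/
noncomputable def live0 : Live := ⟨0, [0, 1, 25], [cls0_0]⟩

noncomputable def cls1_0 : BTree := (.node (.node (.node (.node (.leaf 0x0) (.leaf 0x0)) (.node (.leaf 0x0) (.leaf 0x4c061c04100000008c06540390000000a00648039000000040060c0410000000bc068004100000001c060403900000009c06480110000000980690041000000050066800d0000000b8062c04100000003c0620041000000068069c0410000000780634041000000048061c039000000090065404100000003806200390000000c4064c0110000000740634011000000030062000d00000002405f4011000000064069c039000000088064000d00000007c061400d00000001005ec01100000001805ec041000000058066804100000003406200110000000c0063801100000001405ec03900000005c063003900000000800000170000000b405fc011))) (.node (.node (.leaf 0x0) (.leaf 0x0)) (.node (.leaf 0x0) (.leaf 0x0)))) (.node (.node (.node (.leaf 0x0) (.leaf 0x0)) (.node (.leaf 0x0) (.leaf 0xac065c03900000008406140410000000a40648041000000020060404100000002805f4039000000054066801100000002c05f4041000000044061c01100000006c069400d0000000a8067c01100000009406900390000000700694039)))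 (.node (.node (.leaf 0x0) (.leaf 0x6006300410000000b0060800d00000000c05ec00d00000008006140110000000040000033000000000000005b00000000000000000000000000000000000000000000000000000000000000000000000000000000000000000000000000000000000000000000000000000000000000000000000000000000000000000000000000000000000000000000000000000000000000000000000000000000000000000000000000000000000000000000000000000000000000000000000000000000000000000000000000000000000000000000000000000000000000000000000000000000000000000000000000000000000000000000000000000000)) (.node (.leaf 0x0) (.leaf 0x0)))))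

/-- a living orbit -/
noncomputable def live1 : Live := ⟨1, [3, 4, 14, 16], [cls1_0]⟩

noncomputable def cls2_0 : BTree := (.node (.node (.node (.node (.leaf 0x0) (.leaf 0x0)) (.node (.leaf 0x0) (.leaf 0xbc060003d00000001405ec01d00000007805f003500000003c0678019000000054062003d00000002c061c03d000000084065403500000007c05f003d000000064069003d00000004806a4019000000034064001d0000000b0064803d00000009c05f403d00000005006a403d0000000a8062c01900000001005ec0190000000a406580190000000c40664035000000044067803d0000000a0063403d00000004c06a40350000000ac0648035000000098067001d00000001c05ec03d0000000080000023000000068069c03d00000007005f0019000000094068403d00000005c068c0350000000c0068003500000000c05e803d00000007405f001d))) (.node (.node (.leaf 0x0) (.leaf 0x0)) (.node (.leaf 0x0) (.leaf 0x0)))) (.node (.node (.node (.leaf 0x0) (.leaf 0x0)) (.node (.leaf 0x0) (.leaf 0x6c066803500000008c068401d00000001805ec035000000060068c03d000000028061c0350000000b4069403d000000058068c019000000024061c01d000000020061c0190000000880684019000000038064003d0000000800654019)))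 (.node (.node (.leaf 0x0) (.leaf 0xb8061403d0000000900684035000000040067803500000003006400190000000040000047000000000000002b00000000000000000000000000000000000000000000000000000000000000000000000000000000000000000000000000000000000000000000000000000000000000000000000000000000000000000000000000000000000000000000000000000000000000000000000000000000000000000000000000000000000000000000000000000000000000000000000000000000000000000000000000000000000000000000000000000000000000000000000000000000000000000000000000000000000000000000000000000000)) (.node (.leaf 0x0) (.leaf 0x0)))))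

/-- a living orbit -/
noncomputable def live2 : Live := ⟨2, [6, 7, 13, 15], [cls2_0]⟩

noncomputable def cls3_0 : BTree := (.node (.node (.node (.node (.leaf 0x0) (.leaf 0x0)) (.node (.leaf 0x0) (.leaf 0x44069005500000004c062404d00000005006240510000000b8066404d00000005c05f8055000000010060404d0000000680634051000000070060805500000008006940550000000840600049000000090061c0510000000a00640051000000064063404d00000003c066805500000007c06940510000000400690049000000094064804d0000000a8067c04d000000024068c05100000006c0608051000000078069404d000000060068405500000001806040550000000ac0688049000000038066805100000002c06ac04900000005805f805100000008c0600051000000088060004d000000028068c05500000000405e805100000003406ac055))) (.node (.node (.leaf 0x0) (.leaf 0x0)) (.node (.leaf 0x0) (.leaf 0x0)))) (.node (.node (.node (.leaf 0x0) (.leaf 0x0)) (.node (.leaf 0x0) (.leaf 0xc060404900000005405f804900000009806480510000000b006a80510000000bc05f00550000000c406a405100000003006ac051000000014060405100000000805e80550000000480624049000000020068c04d0000000c0062c051)))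 (.node (.node (.leaf 0x0) (.leaf 0xa4067c04900000001c068c0490000000b406a8055000000074061805500000009c0648055000000000000006b00000000000000000000000000000000000000000000000000000000000000000000000000000000000000000000000000000000000000000000000000000000000000000000000000000000000000000000000000000000000000000000000000000000000000000000000000000000000000000000000000000000000000000000000000000000000000000000000000000000000000000000000000000000000000000000000000000000000000000000000000000000000000000000000000000000000000000000000000000000)) (.node (.leaf 0x0) (.leaf 0x0)))))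

/-- a living orbit -/
noncomputable def live3 : Live := ⟨3, [18, 19, 20, 21], [cls3_0]⟩

/-- the living orbits -/
noncomputable def lives : List Live := [live0, live1, live2, live3]

/-- facts removing the other orbits -/
def dead : List Nat := [24, 27]


end CfsgLib.Spor.HN.KL
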