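import Cfsg.Agent.Lib.Spor.HN.KLData
import Cfsg.Agent.Lib.Spor.HN.KLSub
import Cfsg.Agent.Lib.DCE.Stabs

/-!
Orders of the stabilisers of the double cosets `L g L` in the group on `x, y, z`.
-/

namespace CfsgLib.Spor.HN.KLStabs

open CfsgLib.PresCert CfsgLib.DCE

theorem s0_pairs : okPairs KL.S0ws (KL.live0.stabs.map fun f => (Setup.fget KL.facts f).p) = true := by
  decide +kernel

theorem s0_tabs : okTabs KL.P KL.S0ws KL.S0tab = true := by decide +kernel

theorem s0_words : (PermData.mk KL.P.n KL.S0ws.length KL.S0tab KL.S0ex).okWords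
    KL.S0ws.length KL.S0ex = true := by decide +kernel

theorem s0_levels : (PermData.mk KL.P.n KL.S0ws.length KL.S0tab KL.S0ex).okLevels []
    KL.S0ls = true := by decide +kernel

theorem s1_pairs : okPairs KL.S1ws (KL.live1.stabs.map fun f => (Setup.fget KL.facts f).p) = true := by
  decide +kernel

theorem s1_tabs : okTabs KL.P KL.S1ws KL.S1tab = true := by decide +kernel

theorem s1_words : (PermData.mk KL.P.n KL.S1ws.length KL.S1tab KL.S1ex).okWords
    KL.S1ws.length KL.S1ex = true := by decide +kernel

theorem s1_levels : (PermData.mk KL.P.n KL.S1ws.length KL.S1tab KL.S1ex).okLevels []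
    KL.S1ls = true := by decide +kernel

theorem s2_pairs : okPairs KL.S2ws (KL.live2.stabs.map fun f => (Setup.fget KL.facts f).p) = true := by
  decide +kernel

theorem s2_tabs : okTabs KL.P KL.S2ws KL.S2tab = true := by decide +kernel

theorem s2_words : (PermData.mk KL.P.n KL.S2ws.length KL.S2tab KL.S2ex).okWords
    KL.S2ws.length KL.S2ex = true := by decide +kernel

theorem s2_levels : (PermData.mk KL.P.n KL.S2ws.length KL.S2tab KL.S2ex).okLevels []
    KL.S2ls = true := by decide +kernel

theorem s3_pairs : okPairs KL.S3ws (KL.live3.stabs.map fun f => (Setup.fget KL.facts f).p) = true := by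
  decide +kernel

theorem s3_tabs : okTabs KL.P KL.S3ws KL.S3tab = true := by decide +kernel

theorem s3_words : (PermData.mk KL.P.n KL.S3ws.length KL.S3tab KL.S3ex).okWords
    KL.S3ws.length KL.S3ex = true := by decide +kernel

theorem s3_levels : (PermData.mk KL.P.n KL.S3ws.length KL.S3tab KL.S3ex).okLevels []
    KL.S3ls = true := by decide +kernel

theorem c_tabs : okTabs KL.P KL.Cws KL.Ctab = true := by decide +kernel

theorem c_words : (PermData.mk KL.P.n KL.Cws.length KL.Ctab KL.Cex).okWords KL.Cws.length
    KL.Cex = true := by decide +kernel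

theorem c_levels : (PermData.mk KL.P.n KL.Cws.length KL.Ctab KL.Cex).okLevels [] KL.Cls = true := by
  decide +kernel

theorem c_pairs : okPairs KL.Cws [ivw (Setup.fget KL.facts KL.killFact).p ++
    (Setup.fget KL.facts KL.killFact).q] = true := by decide +kernel

end CfsgLib.Spor.HN.KLStabs
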