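import Cfsg.Agent.Lib.Spor.HN.LFaithful
import Cfsg.Agent.Lib.Spor.HN.KLStabs

/-!
The group on `x, y, z` has order at most 177408000.
-/

namespace CfsgLib.Spor.HN

open CfsgLib.PresCert CfsgLib.DCE

/-- the generator `x` -/
def kx : GrpK := Grp.gen 0

/-- the generator `y` -/
def ky : GrpK := Grp.gen 1

/-- the generator `z` -/
def kz : GrpK := Grp.gen 2

theorem kz_sq : kz * kz = 1 := by
  have := Grp.wv_rel (m := 3) (rels := RK) (w := [4, 4]) (by decide)
  simpa [wv, lv, kz, mul_assoc] using this

theorem kzx_sq : kz * kx * (kz * kx) = 1 := by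
  have := Grp.wv_rel (m := 3) (rels := RK) (w := [4, 0, 4, 0]) (by decide)
  simpa [wv, lv, kz, kx, mul_assoc] using this

theorem ka_comm : kz⁻¹ * (ky * kx * ky * kx * ky * ky * kx * ky⁻¹)⁻¹ * kz *
    (ky * kx * ky * kx * ky * ky * kx * ky⁻¹) * (kx⁻¹ * kx⁻¹) = 1 := by
  have := Grp.wv_rel (m := 3) (rels := RK)
    (w := [5, 2, 1, 3, 3, 1, 3, 1, 3, 4, 2, 0, 2, 0, 2, 2, 0, 3, 1, 1]) (by decide)
  simpa [wv, lv, kz, kx, ky, mul_assoc] using this

private theorem sub_l : (RL.all fun w => RK.contains (subst [[0], [2]] w)) = true := by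
  decide +kernel

/-- the group on `x, y` maps into the group on `x, y, z` -/
noncomputable def psiL : GrpL →* GrpK :=
  Grp.lift (fun k : Fin 2 => wv Grp.gen ([[0], [2]].getD k [])) (subst_rels rfl sub_l)

theorem psiL_x : psiL (Grp.gen 0) = kx := by simp [psiL, kx, wv, lv]

theorem psiL_y : psiL (Grp.gen 1) = ky := by simp [psiL, ky, wv, lv]

/-- the meaning of the letters -/
noncomputable def genK (x : Nat) : GrpK :=
  if x < 4 then psiL (permsL.val [x])
  else (psiL (permsL.val (KL.S.letE x).2))⁻¹ * kz * psiL (permsL.val (KL.S.letE x).2)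

theorem genK_lv : ∀ x, x < 5 → genK x = lv (Grp.gen (m := 3) (rels := RK)) x := by
  intro x hx
  interval_cases x
  · simp [genK, permsL, Perms.ofGrp, Perms.val, wv, lv, psiL]
  · simp [genK, permsL, Perms.ofGrp, Perms.val, wv, lv, psiL]
  · simp [genK, permsL, Perms.ofGrp, Perms.val, wv, lv, psiL]
  · simp [genK, permsL, Perms.ofGrp, Perms.val, wv, lv, psiL]
  · have : (KL.S.letE 4).2 = [] := by decide +kernel
    simp [genK, this, Perms.val, wv, lv, kz]

/-- the letter `Z` rewritten as `z` -/
def canon (w : List Nat) : List Nat := w.map fun x => if x = 5 then 4 else x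

theorem wv_canon (w : List Nat) :
    wv (Grp.gen (m := 3) (rels := RK)) (canon w) = wv Grp.gen w := by
  unfold wv canon
  rw [List.map_map]
  congr 1
  refine List.map_congr_left fun x _ => ?_
  simp only [Function.comp_apply]
  split_ifs with h
  · subst h
    have h := kz_sq
    simpa [lv, kz] using eq_inv_of_mul_eq_one_left h
  · rfl

/-- the relators of the enumeration are consequences of those of the group -/
noncomputable def okKnown : Bool :=
  KL.S.rels.all fun r => (r.all fun x => Nat.blt x 5) &&
    (r == [] || r == [4, 4] ||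
      RK.any fun k => canon k == canon r || canon k == canon (ivw r))

theorem known_ok : okKnown = true := by decide +kernel

theorem edges_len : KL.S.edges.length = 1 := by decide +kernel

/-- the model of the enumeration -/
noncomputable def modelKL : Model KL.S GrpL GrpK where
  M := permsL
  inj := l_faithful.1
  f := psiL
  T _ := kz
  comm := by
    intro e he k hk
    rw [edges_len] at he
    obtain rfl : e = 0 := by omega
    have hk' : k < 2 := hk
    have hxz : kx * kz = kz * kx⁻¹ := by
      calc kx * kz = kz⁻¹ * (kz * kx * (kz * kx)) * kx⁻¹ := by group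
        _ = kz * kx⁻¹ := by rw [kzx_sq, mul_one, show kz⁻¹ = kz from inv_eq_of_mul_eq_one_right kz_sq]
    interval_cases k
    · show psiL (permsL.val [0]) * kz = kz * psiL (permsL.val [1])
      simp only [Perms.val, permsL, Perms.ofGrp, wv, List.map_cons, List.map_nil, List.prod_cons,
        List.prod_nil, mul_one]
      simpa [lv, psiL_x] using hxz
    · show psiL (permsL.val [2, 0, 2, 0, 2, 2, 0, 3]) * kz =
        kz * psiL (permsL.val [2, 0, 2, 0, 2, 2, 0, 3, 1, 1])
      simp only [Perms.val, permsL, Perms.ofGrp, wv, List.map_cons, List.map_nil, List.prod_cons,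
        List.prod_nil, mul_one]
      simp only [lv, map_mul, map_inv]
      simp [psiL_x, psiL_y]
      have h := ka_comm
      have hz : kz⁻¹ = kz := inv_eq_of_mul_eq_one_right kz_sq
      generalize ha : ky * kx * ky * kx * ky * ky * kx * ky⁻¹ = a at h
      have e : a * kz = kz * (a * (kx⁻¹ * kx⁻¹)) := by
        calc a * kz = a * kz * (kz⁻¹ * a⁻¹ * kz * a * (kx⁻¹ * kx⁻¹)) := by rw [h, mul_one]
          _ = kz * (a * (kx⁻¹ * kx⁻¹)) := by group
      subst ha
      simpa [mul_assoc] using e
  gen' := genK
  gen'_lt := by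
    intro x hx
    have : x < 4 := hx
    rw [genK, if_pos this]; rfl
  gen'_let := by
    intro x hx _
    have : ¬x < 4 := Nat.not_lt.2 hx
    rw [genK, if_neg this]; rfl
  gen'_inv := by
    intro x hx
    have hx' : x < 5 := hx
    rw [genK_lv x hx', genK_lv (KL.S.linv.getD x 0) (by interval_cases x <;> decide)]
    interval_cases x
    · exact lv_xor _ 0
    · exact lv_xor _ 1
    · exact lv_xor _ 2
    · exact lv_xor _ 3
    · have h := kz_sq
      simpa [KL.S, lv, kz] using eq_inv_of_mul_eq_one_left h
  rels_eq := by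
    intro r hr
    have h := List.all_eq_true.1 known_ok r hr
    simp only [Bool.and_eq_true, List.all_eq_true, Nat.blt_eq, Bool.or_eq_true, beq_iff_eq,
      List.any_eq_true] at h
    obtain ⟨hlt, h⟩ := h
    rw [show r.map genK = r.map (lv (Grp.gen (m := 3) (rels := RK))) from
      List.map_congr_left fun x hx => genK_lv x (hlt x hx)]
    show wv (Grp.gen (m := 3) (rels := RK)) r = 1
    rcases h with (rfl | rfl) | ⟨k, hk, e | e⟩
    · rfl
    · exact Grp.wv_rel (by decide)
    · rw [← wv_canon, ← e, wv_canon]; exact Grp.wv_rel hk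
    · rw [← inv_eq_one, ← wv_ivw, ← wv_canon, ← e, wv_canon]; exact Grp.wv_rel hk
  gen_top := gen_top_l
  top := by
    refine top_le_iff.1 ((Grp.closure_gen (m := 3) (rels := RK)).symm.trans_le ?_)
    refine Subgroup.closure_mono ?_
    rintro _ ⟨k, rfl⟩
    fin_cases k
    · exact Or.inl ⟨Grp.gen 0, psiL_x⟩
    · exact Or.inl ⟨Grp.gen 1, psiL_y⟩
    · exact Or.inr ⟨0, by rw [edges_len]; exact Nat.one_pos, rfl⟩

theorem kl_edgeStab : EdgeStab modelKL :=
  EdgeStab.of_levels (N := modelKL) (fun _ => KL.E0L0) (fun _ => KL.V0ws)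
    (fun e he => by rw [edges_len] at he; obtain rfl : e = 0 := by omega
                    decide +kernel)
    (fun e he => by rw [edges_len] at he; obtain rfl : e = 0 := by omega
                    decide +kernel)
    (fun _ _ => l_edgeStab)

theorem kl_index : psiL.range.index ≤ 352 ∧ psiL.range.index ≠ 0 := by
  obtain ⟨hfin, -⟩ := gl_bound
  have hc := l_faithful.2
  have hall : ∀ n < KL.facts.length, KL.S.okFact KL.facts n = true := fun n hn =>
    okRange_get KL.facts_ok n (Nat.zero_le _) (by omega)
  have h := index_le modelKL KL.setup_ok hall kl_edgeStab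
    (fun L hL => List.all_eq_true.1 KL.lives_ok L hL) KL.cover_ok
    (fun L => [1, 50, 175, 126].getD L.i 0) (by
      intro L hL
      simp only [KL.lives, List.mem_cons, List.not_mem_nil, or_false] at hL
      rcases hL with rfl | rfl | rfl | rfl
      · exact modelKL.stab_index KLStabs.s0_pairs
          (le_trans (by decide +kernel : 1512000 ≤ (KL.S0ls.map Level.len).prod)
            (permsL.sub_card KLStabs.s0_tabs KLStabs.s0_words KL.S0ls KLStabs.s0_levels))
          (by rw [hc]; decide +kernel)
      · exact modelKL.stab_index KLStabs.s1_pairs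
          (le_trans (by decide +kernel : 30240 ≤ (KL.S1ls.map Level.len).prod)
            (permsL.sub_card KLStabs.s1_tabs KLStabs.s1_words KL.S1ls KLStabs.s1_levels))
          (by rw [hc]; decide +kernel)
      · exact modelKL.stab_index KLStabs.s2_pairs
          (le_trans (by decide +kernel : 8640 ≤ (KL.S2ls.map Level.len).prod)
            (permsL.sub_card KLStabs.s2_tabs KLStabs.s2_words KL.S2ls KLStabs.s2_levels))
          (by rw [hc]; decide +kernel)
      · exact modelKL.stab_index KLStabs.s3_pairs
          (le_trans (by decide +kernel : 12000 ≤ (KL.S3ls.map Level.len).prod)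
            (permsL.sub_card KLStabs.s3_tabs KLStabs.s3_words KL.S3ls KLStabs.s3_levels))
          (by rw [hc]; decide +kernel))
  exact ⟨h.1.trans_eq (by decide +kernel), h.2⟩

theorem kl_kill : Nat.card psiL.range ≤ 504000 := by
  obtain ⟨hfin, -⟩ := gl_bound
  have hall : ∀ n < KL.facts.length, KL.S.okFact KL.facts n = true := fun n hn =>
    okRange_get KL.facts_ok n (Nat.zero_le _) (by omega)
  have hlt : KL.killFact < KL.facts.length := by decide +kernel
  obtain ⟨hsh, h0, -, -⟩ := facts_sound modelKL KL.setup_ok _ hall _ hlt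
  have e := h0 (by decide +kernel)
  rw [show (Setup.fget KL.facts KL.killFact).i = 0 by decide +kernel, Model.g, one_mul,
    mul_one] at e
  have hker : permsL.sub KL.Cws ≤ psiL.ker := by
    refine (permsL.sub_le_of_pairs KLStabs.c_pairs).trans ((Subgroup.closure_le _).2 ?_)
    rintro _ ⟨k, hk, rfl⟩
    rw [List.length_singleton] at hk
    obtain rfl : k = 0 := by omega
    rw [SetLike.mem_coe, MonoidHom.mem_ker, List.getD_cons_zero, Perms.val_append, Perms.val_ivw,
      map_mul, map_inv, inv_mul_eq_one]
    exact e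
  have h3 : 3 ≤ Nat.card (permsL.sub KL.Cws) :=
    le_trans (by decide +kernel : 3 ≤ (KL.Cls.map Level.len).prod)
      (permsL.sub_card KLStabs.c_tabs KLStabs.c_words KL.Cls KLStabs.c_levels)
  have h4 := h3.trans (Subgroup.card_le_of_le hker)
  have h5 := psiL.ker.card_mul_index
  rw [Subgroup.index_ker, l_faithful.2] at h5
  nlinarith

theorem gk_bound : Finite GrpK ∧ Nat.card GrpK ≤ 177408000 := by
  obtain ⟨hi, hi0⟩ := kl_index
  have hr := kl_kill
  obtain ⟨hfin, -⟩ := gl_bound
  have : Finite psiL.range := Finite.of_surjective _ psiL.rangeRestrict_surjective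
  have e := psiL.range.card_mul_index
  have hne : Nat.card GrpK ≠ 0 := by
    rw [← e]; exact Nat.mul_ne_zero (Nat.card_pos (α := psiL.range)).ne' hi0
  refine ⟨Nat.finite_of_card_ne_zero hne, ?_⟩
  rw [← e]
  calc Nat.card psiL.range * psiL.range.index ≤ 504000 * 352 := Nat.mul_le_mul hr hi
    _ = 177408000 := rfl

end CfsgLib.Spor.HN
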