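import Cfsg.Agent.Lib.Spor.HN.LOrder
import Cfsg.Agent.Lib.Spor.HN.KLChecks

/-!
The group on `x, y` has order 1512000 and acts faithfully on 432 points.
-/

namespace CfsgLib.Spor.HN

open CfsgLib.PresCert CfsgLib.DCE

private theorem rels_l : okRels KL.P RL = true := by decide +kernel

/-- the representation of the group on `x, y` on 432 points -/
noncomputable def permsL : Perms KL.P GrpL :=
  Perms.ofGrp (m := 2) rfl KL.pair_ok rels_l

theorem lens_l : (KL.ls.map Level.len).prod = 1512000 := by decide +kernel

theorem bases_l : KL.ls.map Level.base = KL.base := by decide +kernel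

theorem gen_top_l : Subgroup.closure (Set.range permsL.gen) = ⊤ := Grp.closure_gen

theorem l_faithful :
    (∀ h : GrpL, (∀ i : Fin KL.P.n, (i : Nat) ∈ KL.base → permsL.act h i = i) → h = 1) ∧
      Nat.card GrpL = 1512000 := by
  obtain ⟨hfin, h⟩ := gl_bound
  have := permsL.faithful KL.words_ok KL.ls KL.levels_ok (by rw [lens_l]; exact h)
  rw [lens_l, bases_l] at this
  exact this

theorem l_injective : Function.Injective permsL.π := by
  refine (injective_iff_map_eq_one _).2 fun h hh => l_faithful.1 h fun i _ => ?_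
  simp [Perms.act, hh]

theorem l_edgeStab : ∀ h : GrpL,
    (∀ i : Fin KL.P.n, (i : Nat) = KL.E0L0.base → permsL.act h i = i) →
      h ∈ permsL.sub KL.V0ws := by
  obtain ⟨hfin, -⟩ := gl_bound
  exact permsL.stab_eq l_faithful.2 KL.words_ok l_injective gen_top_l KL.E0L0 KL.e0_levels
    KL.e0_fix (v := 30240)
    (le_trans (by decide +kernel : 30240 ≤ (KL.V0ls.map Level.len).prod)
      (permsL.sub_card KL.v0_tabs KL.v0_words KL.V0ls KL.v0_levels))
    (by decide +kernel)

end CfsgLib.Spor.HN
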