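import Cfsg.Agent.Lib.Spor.HN.UOrder

/-!
The group on `x, y` has order at most 1512000: it is `W⟨x⟩` with `W` an image of the group on
`y, w` normalised by `x`, and `x ^ 4 = 1`.
-/

namespace CfsgLib.Spor.HN

open CfsgLib.DCE

/-- the generator `x` -/
def lx : GrpL := Grp.gen 0

/-- the generator `y` -/
def ly : GrpL := Grp.gen 1

theorem rel_eval (w : List Nat) (hw : w ∈ RL) :
    wv (Grp.gen (m := 2) (rels := RL)) w = 1 := Grp.wv_rel hw

theorem y_six : ly ^ 6 = 1 := by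
  have := rel_eval [2, 2, 2, 2, 2, 2] (by decide)
  simpa [wv, lv, ly, pow_succ, mul_assoc] using this

theorem xxy : lx * lx * ly * (lx * lx) * ly⁻¹ = 1 := by
  have := rel_eval [0, 0, 2, 0, 0, 3] (by decide)
  simpa [wv, lv, lx, ly, mul_assoc] using this

theorem comm_three : (lx⁻¹ * ly⁻¹ * lx * ly) ^ 3 = 1 := by
  have := rel_eval [1, 3, 0, 2, 1, 3, 0, 2, 1, 3, 0, 2] (by decide)
  simpa [wv, lv, lx, ly, pow_succ, mul_assoc] using this

theorem four_three : (lx⁻¹ * ly * ly * lx * (ly * ly * ly)) ^ 3 = 1 := by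
  have := rel_eval [1, 2, 2, 0, 2, 2, 2, 1, 2, 2, 0, 2, 2, 2, 1, 2, 2, 0, 2, 2, 2] (by decide)
  simpa [wv, lv, lx, ly, pow_succ, mul_assoc] using this

theorem xy_eight : (lx * ly) ^ 8 = 1 := by
  have := rel_eval [0, 2, 0, 2, 0, 2, 0, 2, 0, 2, 0, 2, 0, 2, 0, 2] (by decide)
  simpa [wv, lv, lx, ly, pow_succ, mul_assoc] using this

theorem xyxy_four : (lx * ly * lx * (ly * ly * ly)) ^ 4 = 1 := by
  have := rel_eval [0, 2, 0, 2, 2, 2, 0, 2, 0, 2, 2, 2, 0, 2, 0, 2, 2, 2, 0, 2, 0, 2, 2, 2]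
    (by decide)
  simpa [wv, lv, lx, ly, pow_succ, mul_assoc] using this

theorem x_four : lx * lx * (lx * lx) = 1 := by
  let s := lx * lx
  have hy : ly⁻¹ * s * ly = s⁻¹ := by
    have h := xxy
    calc ly⁻¹ * s * ly = ly⁻¹ * (lx * lx * ly * (lx * lx) * ly⁻¹) * ly * s⁻¹ := by
          simp only [s]; group
      _ = s⁻¹ := by rw [h]; group
  have hx : lx⁻¹ * s * lx = s := by simp only [s]; group
  have hx' : lx * s * lx⁻¹ = s := by simp only [s]; group
  have inv_y : ∀ t : GrpL, t = s ∨ t = s⁻¹ → ly⁻¹ * t * ly = t⁻¹ := by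
    rintro t (rfl | rfl)
    · exact hy
    · rw [inv_inv]
      calc ly⁻¹ * s⁻¹ * ly = (ly⁻¹ * s * ly)⁻¹ := by group
        _ = s := by rw [hy, inv_inv]
  have hm : ∀ t : GrpL, t = s ∨ t = s⁻¹ →
      (lx⁻¹ * ly * ly * lx * (ly * ly * ly))⁻¹ * t * (lx⁻¹ * ly * ly * lx * (ly * ly * ly)) = t⁻¹ := by
    intro t ht
    have h1 : lx * t * lx⁻¹ = t := by
      rcases ht with rfl | rfl
      · exact hx'
      · calc lx * s⁻¹ * lx⁻¹ = (lx * s * lx⁻¹)⁻¹ := by group
          _ = _ := by rw [hx']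
    have h2 : lx⁻¹ * t * lx = t := by
      rcases ht with rfl | rfl
      · exact hx
      · calc lx⁻¹ * s⁻¹ * lx = (lx⁻¹ * s * lx)⁻¹ := by group
          _ = _ := by rw [hx]
    have hi : t⁻¹ = s ∨ t⁻¹ = s⁻¹ := by
      rcases ht with rfl | rfl
      · exact Or.inr rfl
      · exact Or.inl (inv_inv s)
    calc _ = ly⁻¹ * (ly⁻¹ * (ly⁻¹ * (lx⁻¹ * (ly⁻¹ * (ly⁻¹ * (lx * t * lx⁻¹) * ly) * ly) * lx) * ly)
          * ly) * ly := by group
      _ = t⁻¹ := by
          rw [h1, inv_y t ht, inv_y _ hi, inv_inv, h2, inv_y t ht, inv_y _ hi, inv_inv, inv_y t ht]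
  have hs : s⁻¹ = s := by
    have e := four_three
    generalize lx⁻¹ * ly * ly * lx * (ly * ly * ly) = m at e hm
    calc s⁻¹ = m⁻¹ * (m⁻¹ * (m⁻¹ * s * m) * m) * m := by
          rw [hm s (Or.inl rfl), hm _ (Or.inr rfl), inv_inv, hm s (Or.inl rfl)]
      _ = (m ^ 3)⁻¹ * s * m ^ 3 := by simp only [pow_succ, pow_zero, one_mul]; group
      _ = s := by rw [e]; group
  calc lx * lx * (lx * lx) = s⁻¹ * s := by rw [hs]
    _ = 1 := inv_mul_cancel s

theorem xx_central_y : ly * (lx * lx) = lx * lx * ly := by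
  have h4 := x_four
  have h := xxy
  calc ly * (lx * lx) = (lx * lx * (lx * lx))⁻¹ * (lx * lx) *
        (lx * lx * ly * (lx * lx) * ly⁻¹) * ly := by group
    _ = lx * lx * ly := by rw [h, h4]; group

/-- the element `w` -/
def lw : GrpL := lx⁻¹ * ly * lx

theorem x_conj_w : lx⁻¹ * lw * lx = ly := by
  calc lx⁻¹ * lw * lx = (lx * lx)⁻¹ * (ly * (lx * lx)) := by rw [lw]; group
    _ = ly := by rw [xx_central_y]; group

/-- the images of the generators `y, w` -/
def uval : Fin 2 → GrpL := fun k => if k = 0 then ly else lw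

private theorem pow_sq_mul (A : GrpL) (hA : lx * lx * A = A * (lx * lx)) :
    (lx * lx * A) ^ 4 = A ^ 4 := by
  have hc : Commute (lx * lx) A := hA
  rw [hc.mul_pow]
  have : (lx * lx) ^ 4 = (1 : GrpL) := by
    rw [show 4 = 2 * 2 from rfl, pow_mul, pow_two (lx * lx), x_four, one_pow]
  rw [this, one_mul]

theorem uval_rels : ∀ r ∈ RU, wv uval r = 1 := by
  have c2y : lx * lx * ly = ly * (lx * lx) := xx_central_y.symm
  have c2w : lx * lx * lw = lw * (lx * lx) := by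
    calc lx * lx * lw = lx⁻¹ * (lx * lx * ly) * lx := by rw [lw]; group
      _ = lw * (lx * lx) := by rw [c2y, lw]; group
  have hC : Commute (lx * lx) ly := c2y
  have hD : Commute (lx * lx) lw := c2w
  have conj : ∀ (A : GrpL) (n : ℕ), (lx⁻¹ * A * lx) ^ n = lx⁻¹ * A ^ n * lx := by
    intro A n
    simpa [MulAut.conj_apply] using (map_pow (MulAut.conj lx⁻¹) A n).symm
  have e1 : lw ^ 6 = 1 := by rw [lw, conj, y_six]; group
  have e2 : (lw * ly) ^ 4 = 1 := by
    rw [← pow_sq_mul _ (hD.mul_right hC)]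
    calc (lx * lx * (lw * ly)) ^ 4 = (lx * ly * (lx * ly)) ^ 4 := by
          congr 1; rw [lw]; group
      _ = (lx * ly) ^ 8 := by rw [show 8 = 2 * 4 from rfl, pow_mul, pow_two]
      _ = 1 := xy_eight
  have e3 : (lw * (ly * ly * ly)) ^ 4 = 1 := by
    rw [← pow_sq_mul _ (hD.mul_right ((hC.mul_right hC).mul_right hC))]
    calc _ = (lx * ly * lx * (ly * ly * ly)) ^ 4 := by congr 1; rw [lw]; group
      _ = 1 := xyxy_four
  have e4 : (ly * (lw * lw * lw)) ^ 4 = 1 := by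
    have e : lx⁻¹ * (lw * (ly * ly * ly)) * lx = ly * (lw * lw * lw) := by
      rw [show lx⁻¹ * (lw * (ly * ly * ly)) * lx = (lx⁻¹ * lw * lx) *
        ((lx⁻¹ * ly * lx) * (lx⁻¹ * ly * lx) * (lx⁻¹ * ly * lx)) by group, x_conj_w]
      rfl
    rw [← e, conj, e3]; group
  have e5 : (lw⁻¹ * ly) ^ 3 = 1 := by
    rw [← comm_three]; congr 1
  have e6 : (lw * lw * (ly * ly * ly)) ^ 3 = 1 := by
    (rw [← four_three]; congr 1; rw [lw]) <;> group
  have e7 : (ly * ly * (lw * lw * lw)) ^ 3 = 1 := by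
    have e : lx⁻¹ * (lw * lw * (ly * ly * ly)) * lx = ly * ly * (lw * lw * lw) := by
      rw [show lx⁻¹ * (lw * lw * (ly * ly * ly)) * lx = (lx⁻¹ * lw * lx) * (lx⁻¹ * lw * lx) *
        ((lx⁻¹ * ly * lx) * (lx⁻¹ * ly * lx) * (lx⁻¹ * ly * lx)) by group, x_conj_w]
      rfl
    rw [← e, conj, e6]; group
  have e0 := y_six
  intro r hr
  simp only [RU, List.mem_cons, List.not_mem_nil, or_false] at hr
  rcases hr with rfl | rfl | rfl | rfl | rfl | rfl | rfl | rfl <;>
    simp [wv, lv, uval, pow_succ, mul_assoc] at e0 e1 e2 e3 e4 e5 e6 e7 ⊢ <;> assumption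

/-- the group on `y, w` maps into the group on `x, y` -/
noncomputable def psiU : GrpU →* GrpL := Grp.lift uval uval_rels

theorem gl_bound : Finite GrpL ∧ Nat.card GrpL ≤ 1512000 := by
  obtain ⟨hfin, hU⟩ := gu_bound
  have hy : ly ∈ psiU.range := ⟨Grp.gen 0, by simp [psiU, uval]⟩
  have hw : lw ∈ psiU.range := ⟨Grp.gen 1, by simp [psiU, uval]⟩
  have hconj : ∀ u ∈ psiU.range, lx⁻¹ * u * lx ∈ psiU.range := by
    rintro _ ⟨u, rfl⟩
    have hu : u ∈ Subgroup.closure (Set.range (Grp.gen (m := 2) (rels := RU))) := by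
      rw [Grp.closure_gen]; trivial
    induction hu using Subgroup.closure_induction with
    | mem u hu =>
      obtain ⟨k, rfl⟩ := hu
      fin_cases k
      · rw [psiU, Grp.lift_gen]
        show lx⁻¹ * ly * lx ∈ _
        exact hw
      · rw [psiU, Grp.lift_gen]
        show lx⁻¹ * lw * lx ∈ _
        rw [x_conj_w]
        exact hy
    | one => simp
    | mul a b _ _ ha hb =>
      rw [show lx⁻¹ * psiU (a * b) * lx = (lx⁻¹ * psiU a * lx) * (lx⁻¹ * psiU b * lx) by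
        rw [map_mul]; group]
      exact mul_mem ha hb
    | inv a _ ha =>
      rw [show lx⁻¹ * psiU a⁻¹ * lx = (lx⁻¹ * psiU a * lx)⁻¹ by rw [map_inv]; group]
      exact inv_mem ha
  have x4 : lx ^ 4 = 1 := by
    simpa [pow_succ, mul_assoc] using x_four
  have hall : ∀ g : GrpL, ∃ i : Fin 4, ∃ u ∈ psiU.range, g = lx ^ (i : ℕ) * u := by
    have step : ∀ (i : ℕ) (u : GrpL), u ∈ psiU.range →
        ∃ j : Fin 4, ∃ v ∈ psiU.range, lx ^ i * u = lx ^ (j : ℕ) * v := by
      intro i u hu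
      refine ⟨⟨i % 4, Nat.mod_lt _ (by omega)⟩, u, hu, ?_⟩
      conv_lhs => rw [← Nat.div_add_mod i 4, pow_add, pow_mul, x4, one_pow, one_mul]
    have mulx : ∀ (i : ℕ) (u : GrpL), u ∈ psiU.range →
        ∃ j : Fin 4, ∃ v ∈ psiU.range, lx ^ i * u * lx = lx ^ (j : ℕ) * v := by
      intro i u hu
      rw [show lx ^ i * u * lx = lx ^ (i + 1) * (lx⁻¹ * u * lx) by rw [pow_succ]; group]
      exact step _ _ (hconj u hu)
    intro g
    have hg : g ∈ Subgroup.closure (Set.range (Grp.gen (m := 2) (rels := RL))) := by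
      rw [Grp.closure_gen]; trivial
    have key : ∀ (i : Fin 4) (u : GrpL), u ∈ psiU.range →
        ∃ j : Fin 4, ∃ v ∈ psiU.range, lx ^ (i : ℕ) * u * g = lx ^ (j : ℕ) * v := by
      induction hg using Subgroup.closure_induction'' with
      | mem x hx =>
        obtain ⟨k, rfl⟩ := hx
        intro i u hu
        fin_cases k
        · exact mulx i u hu
        · exact ⟨i, u * ly, mul_mem hu hy, mul_assoc _ _ _⟩
      | inv_mem x hx =>
        obtain ⟨k, rfl⟩ := hx
        intro i u hu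
        fin_cases k
        · show ∃ j : Fin 4, ∃ v ∈ psiU.range, lx ^ (i : ℕ) * u * lx⁻¹ = lx ^ (j : ℕ) * v
          obtain ⟨j, v, hv, e⟩ := mulx i u hu
          obtain ⟨j', v', hv', e'⟩ := mulx j v hv
          obtain ⟨j'', v'', hv'', e''⟩ := mulx j' v' hv'
          refine ⟨j'', v'', hv'', ?_⟩
          rw [← e'', ← e', ← e, show lx⁻¹ = lx * lx * lx from
            inv_eq_of_mul_eq_one_right (by rw [← mul_assoc, ← mul_assoc]; simpa [pow_succ] using x4)]
          group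
        · exact ⟨i, u * ly⁻¹, mul_mem hu (inv_mem hy), mul_assoc _ _ _⟩
      | one => intro i u hu; exact ⟨i, u, hu, mul_one _⟩
      | mul a b _ _ iha ihb =>
        intro i u hu
        obtain ⟨j, v, hv, e⟩ := iha i u hu
        obtain ⟨j', v', hv', e'⟩ := ihb j v hv
        exact ⟨j', v', hv', by rw [← mul_assoc, e, e']⟩
    obtain ⟨j, v, hv, e⟩ := key 0 1 (one_mem _)
    exact ⟨j, v, hv, by simpa using e⟩
  have hsurj : Function.Surjective (fun p : Fin 4 × psiU.range => lx ^ (p.1 : ℕ) * (p.2 : GrpL)) :=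
    fun g => by obtain ⟨i, u, hu, e⟩ := hall g; exact ⟨(i, ⟨u, hu⟩), e.symm⟩
  have : Finite psiU.range := Finite.of_surjective _ psiU.rangeRestrict_surjective
  refine ⟨Finite.of_surjective _ hsurj, ?_⟩
  have h := Nat.card_le_card_of_surjective _ hsurj
  rw [Nat.card_prod, Nat.card_fin] at h
  have := Nat.card_le_card_of_surjective _ psiU.rangeRestrict_surjective
  omega

end CfsgLib.Spor.HN
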