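import Cfsg.Agent.Lib.DCE.Subst

/-!
The chain of presented groups below the Harada-Norton group: a group of order 120, `3.U3(5)`,
the group on `x, y` and the group on `x, y, z`.
-/

namespace CfsgLib.Spor.HN

open CfsgLib.DCE

/-- relators on `y, v` -/
def R0 : List (List Nat) :=
  [[0, 0, 0, 0, 0, 0],
  [2, 2],
  [0, 2, 0, 2, 0, 2, 0, 2],
  [0, 0, 2, 0, 0, 2, 0, 0, 2]]

/-- relators on `y, w` -/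
def RU : List (List Nat) :=
  [[0, 0, 0, 0, 0, 0],
  [2, 2, 2, 2, 2, 2],
  [2, 0, 2, 0, 2, 0, 2, 0],
  [2, 0, 0, 0, 2, 0, 0, 0, 2, 0, 0, 0, 2, 0, 0, 0],
  [0, 2, 2, 2, 0, 2, 2, 2, 0, 2, 2, 2, 0, 2, 2, 2],
  [3, 0, 3, 0, 3, 0],
  [2, 2, 0, 0, 0, 2, 2, 0, 0, 0, 2, 2, 0, 0, 0],
  [0, 0, 2, 2, 2, 0, 0, 2, 2, 2, 0, 0, 2, 2, 2]]

/-- relators on `x, y` -/
def RL : List (List Nat) :=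
  [[2, 2, 2, 2, 2, 2],
  [0, 0, 2, 0, 0, 3],
  [1, 3, 0, 2, 1, 3, 0, 2, 1, 3, 0, 2],
  [1, 2, 2, 0, 2, 2, 2, 1, 2, 2, 0, 2, 2, 2, 1, 2, 2, 0, 2, 2, 2],
  [0, 2, 0, 2, 0, 2, 0, 2, 0, 2, 0, 2, 0, 2, 0, 2],
  [0, 2, 0, 2, 2, 2, 0, 2, 0, 2, 2, 2, 0, 2, 0, 2, 2, 2, 0, 2, 0, 2, 2, 2]]

/-- relators on `x, y, z` -/
def RK : List (List Nat) :=
  [[2, 2, 2, 2, 2, 2],
  [0, 0, 2, 0, 0, 3],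
  [1, 3, 0, 2, 1, 3, 0, 2, 1, 3, 0, 2],
  [1, 2, 2, 0, 2, 2, 2, 1, 2, 2, 0, 2, 2, 2, 1, 2, 2, 0, 2, 2, 2],
  [0, 2, 0, 2, 0, 2, 0, 2, 0, 2, 0, 2, 0, 2, 0, 2],
  [0, 2, 0, 2, 2, 2, 0, 2, 0, 2, 2, 2, 0, 2, 0, 2, 2, 2, 0, 2, 0, 2, 2, 2],
  [4, 4],
  [4, 0, 4, 0],
  [5, 2, 1, 3, 3, 1, 3, 1, 3, 4, 2, 0, 2, 0, 2, 2, 0, 3, 1, 1],
  [4, 3, 1, 3, 1, 3, 3, 3, 4, 2, 2, 2, 0, 2, 0, 2, 0, 3, 1, 3, 1, 3, 3, 3, 4, 2, 2, 2, 0, 2, 0, 2, 0, 3, 1, 3, 1, 3, 3, 3, 4, 2, 2, 2, 0, 2, 0, 2, 0]]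

/-- the group of order 120 -/
abbrev Grp0 : Type := Grp 2 R0
/-- the group on `y, w` -/
abbrev GrpU : Type := Grp 2 RU
/-- the group on `x, y` -/
abbrev GrpL : Type := Grp 2 RL
/-- the group on `x, y, z` -/
abbrev GrpK : Type := Grp 3 RK

end CfsgLib.Spor.HN
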