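import Cfsg.Agent.Lib.Spor.HN.ActData
import Cfsg.Agent.Lib.DCE.ActPath

/-!
Two elements of order 19 with quotient a square of `t` (generated data).
-/

namespace CfsgLib.Spor.HN.AD

open CfsgLib.PresCert CfsgLib.DCE

/-- an element of order 19 -/
def uWord : List Nat := [2, 2, 0, 3, 6, 6, 4]

/-- the images of a test point under its powers -/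
def uPath0 : List (Nat × List Nat) :=
  [(0, []),
  (1, [2, 2, 1, 3, 4]),
  (2, [3, 4, 2, 4, 2, 0, 2, 0, 2, 0, 3, 0, 3, 0, 2, 0, 2, 0, 2, 2, 4]),
  (1, [4, 3, 3, 0, 3, 0, 3, 4, 2, 2, 2, 4, 2, 2, 0, 2, 1, 2, 4, 3]),
  (3, [0, 4, 3, 0, 3, 4, 3, 4, 2, 2, 4, 2, 4, 2, 2, 0, 2]),
  (6, [0, 3, 3, 0, 4, 2, 2, 0, 3, 3, 4, 3, 3, 4, 2, 4, 2, 2, 0]),
  (5, [4, 2, 0, 3, 3, 0, 3, 3, 4, 3, 4, 3, 3, 0, 3, 1, 2, 4]),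
  (5, [2, 4, 3, 0, 4, 2, 2, 4, 3, 0, 4, 2, 2, 0, 3, 3, 4, 3]),
  (8, [0, 3, 4, 3, 0, 3, 0, 3, 3, 0, 3, 0, 3, 3, 4, 3, 3, 0, 3, 1, 2, 4]),
  (6, [3, 3, 0, 3, 0, 3, 3, 1, 3, 3, 4, 2, 2, 4, 2, 2, 4, 3, 3]),
  (6, [2, 0, 2, 0, 3, 3, 4, 3, 3, 0, 3, 0, 2, 0, 2, 1, 4, 3, 3]),
  (8, [2, 4, 2, 2, 2, 0, 2, 2, 0, 2, 0, 3, 0, 3, 0, 2, 2, 2, 0, 2, 2, 4]),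
  (5, [3, 0, 3, 3, 0, 3, 0, 3, 3, 0, 2, 0, 2, 2, 0, 3, 4, 3, 4, 3, 4]),
  (5, [4, 3, 3, 0, 3, 0, 3, 4, 3, 4, 3, 3, 0, 2, 2, 2, 0, 3, 0]),
  (6, [0, 2, 4, 2, 0, 2, 4, 2, 2, 4, 3, 0, 2, 4, 2, 0, 2, 2, 2, 0]),
  (3, [2, 0, 2, 0, 3, 0, 3, 3, 0, 3, 0, 4, 3, 3, 0, 2, 0, 2, 2, 2]),
  (1, [0, 2, 0, 3, 3, 0, 2, 2, 0, 4, 2, 2, 4, 3, 3, 1, 2, 2, 4, 2]),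
  (2, [0, 3, 4, 2, 4, 2, 2, 2, 0, 2, 2, 0, 3, 0, 3, 3, 1, 4]),
  (1, [0, 3, 4, 2, 0, 2, 4, 2, 2, 2, 4, 2, 2, 2, 1, 4, 3]),
  (0, [])]

/-- hints -/
def uHints0 : List Nat := [0, 0, 0, 0, 0, 0, 0, 0, 0, 0, 0, 0, 0, 0, 0, 0, 0, 0, 0]

theorem u19_0 : okPath A uWord uPath0 uHints0 = true := by decide +kernel

/-- the images of a test point under its powers -/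
def uPath1 : List (Nat × List Nat) :=
  [(1, []),
  (0, [2, 2, 0, 3, 3, 0, 4, 3, 0, 2, 4, 2, 0, 3, 4]),
  (1, [2, 2, 0, 2, 0, 3, 0, 3, 3, 0, 2, 2, 0, 2, 0, 3, 3, 0, 2, 4]),
  (2, [0, 2, 4, 3, 4, 2, 2, 0, 2, 2, 0, 2, 0, 4, 2, 2, 0, 3, 1]),
  (1, [0, 4, 3, 0, 3, 0, 4, 2, 4, 2, 2, 0, 2, 2, 0, 3, 3, 0, 4, 3, 3, 1]),
  (3, [3, 4, 3, 3, 0, 3, 4, 3, 4, 3, 3, 0, 3, 4, 3, 3, 0, 3, 3, 4, 2]),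
  (6, [2, 2, 0, 2, 0, 2, 0, 3, 0, 3, 0, 4, 3, 3, 0, 2, 4, 2, 2, 1, 3]),
  (5, [0, 3, 0, 4, 2, 4, 3, 3, 4, 2, 2, 2, 4, 2, 1, 4, 2, 2, 4]),
  (5, [2, 4, 3, 0, 4, 2, 2, 4, 3, 0, 4, 2, 2, 0, 3, 3, 4, 3]),
  (8, [0, 3, 4, 3, 0, 3, 0, 3, 3, 0, 3, 0, 3, 3, 4, 3, 3, 0, 3, 1, 2, 4]),
  (6, [3, 3, 0, 3, 0, 3, 3, 1, 3, 3, 4, 2, 2, 4, 2, 2, 4, 3, 3]),
  (6, [2, 0, 2, 0, 3, 3, 4, 3, 3, 0, 3, 0, 2, 0, 2, 1, 4, 3, 3]),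
  (8, [2, 4, 2, 2, 2, 0, 2, 2, 0, 2, 0, 3, 0, 3, 0, 2, 2, 2, 0, 2, 2, 4]),
  (5, [3, 0, 3, 3, 0, 3, 0, 3, 3, 0, 2, 0, 2, 2, 0, 3, 4, 3, 4, 3, 4]),
  (5, [4, 3, 3, 0, 3, 0, 3, 4, 3, 4, 3, 3, 0, 2, 2, 2, 0, 3, 0]),
  (6, [0, 2, 4, 2, 0, 2, 4, 2, 2, 4, 3, 0, 2, 4, 2, 0, 2, 2, 2, 0]),
  (3, [2, 0, 2, 0, 3, 0, 3, 3, 0, 3, 0, 4, 3, 3, 0, 2, 0, 2, 2, 2]),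
  (1, [0, 2, 0, 3, 3, 0, 2, 2, 0, 4, 2, 2, 4, 3, 3, 1, 2, 2, 4, 2]),
  (2, [0, 3, 4, 2, 4, 2, 2, 2, 0, 2, 2, 0, 3, 0, 3, 3, 1, 4]),
  (1, [])]

/-- hints -/
def uHints1 : List Nat := [0, 0, 0, 0, 0, 0, 0, 0, 0, 0, 0, 0, 0, 0, 0, 0, 0, 0, 0]

theorem u19_1 : okPath A uWord uPath1 uHints1 = true := by decide +kernel

/-- the images of a test point under its powers -/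
def uPath2 : List (Nat × List Nat) :=
  [(1, [4]),
  (3, [3, 0, 3, 0, 2, 4, 2, 0, 4, 2, 4, 3, 4, 3, 4, 2]),
  (3, [2, 0, 4, 3, 3, 4, 2, 4, 2, 2, 4, 2, 4, 2, 0, 2, 2, 1, 4, 3]),
  (4, [3, 0, 3, 0, 3, 4, 2, 2, 0, 2, 2, 4, 2, 2, 0, 4, 2, 0, 2, 1, 3]),
  (5, [2, 2, 4, 2, 0, 2, 0, 2, 2, 2, 0, 3, 0, 2, 4, 2, 2, 1, 4, 2, 4]),
  (6, [2, 4, 3, 3, 0, 3, 0, 2, 0, 2, 2, 0, 3, 3, 4, 3, 1, 4, 2, 2]),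
  (8, [4, 2, 0, 3, 4, 3, 0, 2, 0, 2, 4, 2, 4, 2, 0, 2, 2, 4, 2, 2]),
  (6, [2, 2, 2, 4, 2, 4, 3, 3, 0, 3, 3, 0, 3, 3, 0, 2, 0, 2, 0, 2]),
  (5, [2, 2, 2, 0, 4, 2, 0, 2, 2, 4, 3, 3, 1, 4, 3, 4, 2, 4, 2]),
  (4, [4, 3, 0, 2, 2, 4, 2, 4, 2, 0, 2, 2, 1, 4, 2, 2, 2, 4]),
  (5, [0, 4, 3, 3, 0, 4, 3, 4, 2, 2, 2, 4, 2, 2, 2, 0, 2, 2, 0]),
  (6, [0, 2, 2, 0, 3, 0, 3, 0, 2, 0, 2, 2, 0, 2, 0, 3, 4, 2, 2, 1, 2]),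
  (8, [0, 2, 4, 2, 2, 0, 4, 2, 0, 3, 0, 3, 3, 4, 3, 0, 2, 4, 2, 2, 1, 3]),
  (6, [0, 2, 2, 0, 3, 3, 0, 3, 3, 0, 2, 2, 0, 4, 2, 4, 3, 3, 0, 3]),
  (5, [0, 2, 0, 2, 2, 2, 0, 4, 2, 0, 2, 0, 2, 2, 2, 1]),
  (4, [4, 3, 3, 0, 3, 0, 4, 3, 3, 0, 3, 0, 2, 1, 2, 2, 4, 2, 2, 2]),
  (3, [0, 3, 0, 3, 3, 0, 3, 3, 4, 2, 0, 4, 2, 2, 0, 2, 4, 2, 0, 2, 0]),
  (3, [2, 2, 0, 4, 3, 3, 4, 2, 2, 0, 2, 2, 4, 3, 3, 4, 3, 0, 2]),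
  (1, [2, 2, 0, 2, 0, 3, 0, 3, 3, 0, 2, 2, 0, 2, 0, 3, 3, 1]),
  (1, [4])]

/-- hints -/
def uHints2 : List Nat := [0, 0, 0, 0, 0, 0, 0, 0, 0, 0, 0, 0, 0, 0, 0, 0, 0, 0, 0]

theorem u19_2 : okPath A uWord uPath2 uHints2 = true := by decide +kernel

/-- the images of a test point under its powers -/
def uPath3 : List (Nat × List Nat) :=
  [(1, [4, 2]),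
  (3, [2, 2, 2, 0, 3, 0, 3, 3, 0, 2, 0, 2, 2, 0, 3, 0, 4]),
  (4, [4, 2, 2, 4, 2, 2, 4, 2, 4, 2, 0, 3, 3, 4, 3, 0, 2, 0, 2, 2]),
  (4, [4, 2, 0, 2, 4, 2, 2, 4, 2, 4, 2, 0, 2, 4, 3, 3, 1, 3, 4, 3]),
  (5, [0, 2, 0, 4, 2, 0, 4, 2, 4, 2, 0, 2, 2, 4, 2, 2, 1, 2, 2]),
  (6, [0, 2, 2, 4, 2, 4, 2, 2, 4, 2, 2, 2, 4, 3, 0, 2, 4, 2, 2]),
  (6, [0, 2, 2, 4, 3, 3, 0, 3, 4, 2, 2, 2, 4, 3, 4, 3, 3, 1, 3]),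
  (5, [2, 2, 0, 3, 0, 4, 2, 4, 2, 0, 2, 4, 2, 4, 2, 2, 4, 3, 3]),
  (5, [0, 4, 2, 2, 2, 4, 2, 4, 2, 2, 0, 3, 1, 2, 2, 4, 2, 2, 2, 4, 2, 4]),
  (3, [2, 4, 2, 2, 0, 4, 2, 4, 2, 2, 4, 3, 0, 4, 2, 2, 0, 2, 2, 4, 2]),
  (6, [0, 4, 2, 4, 3, 4, 3, 3, 4, 2, 2, 2, 0, 2, 4, 2, 2, 0, 3, 4, 3, 3]),
  (6, [4, 2, 4, 2, 4, 2, 0, 2, 2, 4, 2, 2, 2, 0, 4, 2, 1, 3]),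
  (6, [3, 4, 3, 3, 4, 2, 0, 3, 4, 3, 3, 0, 2, 2, 2, 4, 3, 4, 2]),
  (6, [2, 2, 2, 0, 3, 4, 3, 4, 3, 4, 3, 0, 4, 3, 3, 0, 3, 1]),
  (6, [0, 3, 0, 3, 4, 2, 4, 3, 3, 4, 3, 3, 4, 3, 0, 2, 0, 2, 2, 4, 2, 0, 3]),
  (6, [0, 4, 2, 4, 2, 0, 2, 4, 2, 4, 2, 0, 3, 3, 0, 3, 3, 1, 3, 4, 3]),
  (5, [3, 3, 0, 3, 0, 2, 4, 2, 0, 2, 0, 4, 3, 3, 4, 3, 4, 2, 2, 2]),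
  (4, [2, 0, 2, 0, 4, 2, 2, 0, 2, 2, 0, 2, 0, 3, 0, 4, 3, 3, 0, 2, 1, 4]),
  (4, [2, 0, 4, 3, 3, 0, 2, 2, 2, 0, 2, 4, 2, 2, 0, 2]),
  (1, [4, 2])]

/-- hints -/
def uHints3 : List Nat := [0, 0, 0, 0, 0, 0, 0, 0, 0, 0, 0, 0, 0, 0, 0, 0, 0, 0, 0]

theorem u19_3 : okPath A uWord uPath3 uHints3 = true := by decide +kernel

/-- the images of a test point under its powers -/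
def uPath4 : List (Nat × List Nat) :=
  [(1, [4, 3]),
  (3, [2, 2, 2, 0, 3, 4, 2, 2, 4, 2, 4, 2, 0, 2, 4, 3, 4, 3, 3]),
  (4, [0, 3, 0, 4, 3, 4, 3, 3, 0, 3, 3, 4, 3, 3, 0, 2, 0, 3, 3, 0]),
  (4, [2, 0, 3, 0, 2, 4, 2, 2, 0, 3, 3, 4, 3, 4, 3, 4, 3, 0, 3]),
  (5, [2, 2, 4, 2, 2, 0, 2, 2, 0, 2, 0, 2, 4, 2, 2, 4, 2, 2, 2, 4]),
  (6, [0, 3, 0, 2, 0, 4, 2, 4, 2, 4, 3, 3, 0, 3, 4, 3, 0, 2, 2, 2, 4, 3]),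
  (8, [2, 0, 2, 2, 4, 2, 2, 0, 2, 0, 3, 0, 3, 0, 3, 4, 3, 0, 3, 0, 3]),
  (8, [2, 0, 3, 0, 4, 3, 3, 0, 2, 0, 2, 4, 2, 0, 3, 3, 0, 3]),
  (6, [0, 2, 2, 0, 4, 2, 2, 0, 2, 0, 3, 0, 3, 1, 2, 2, 2, 4, 2, 4]),
  (6, [3, 0, 3, 0, 4, 2, 2, 4, 3, 3, 0, 3, 3, 0, 2, 2, 0, 4, 2, 2, 4, 3]),
  (6, [2, 4, 2, 0, 2, 2, 0, 3, 3, 0, 4, 2, 4, 2, 2, 1, 2, 2]),
  (8, [0, 2, 0, 2, 2, 2, 0, 2, 2, 0, 4, 2, 4, 2, 0, 2, 4, 2, 4, 2, 2, 1]),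
  (6, [3, 0, 4, 3, 3, 4, 2, 2, 0, 2, 4, 2, 4, 2, 0, 2, 2, 2, 0, 2, 4]),
  (5, [2, 4, 3, 0, 4, 3, 0, 2, 2, 4, 2, 1, 3, 4, 3, 4]),
  (6, [2, 2, 0, 3, 4, 3, 4, 3, 0, 3, 3, 0, 2, 2, 0, 3, 1, 3]),
  (6, [2, 2, 0, 4, 3, 4, 3, 4, 3, 4, 3, 3, 0, 2, 1, 2, 4, 3]),
  (5, [0, 2, 4, 3, 4, 3, 0, 3, 3, 4, 2, 2, 4, 2, 0, 2, 4, 2, 0, 3, 0, 3, 0]),
  (4, [3, 0, 2, 4, 3, 3, 4, 3, 3, 0, 3, 3, 0, 3, 0, 2, 2, 0, 4, 2]),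
  (4, [0, 4, 3, 4, 2, 4, 2, 4, 2, 2, 2, 0, 4, 3, 4, 3, 4, 3, 4]),
  (1, [4, 3])]

/-- hints -/
def uHints4 : List Nat := [0, 0, 0, 0, 0, 0, 0, 0, 0, 0, 0, 0, 0, 0, 0, 0, 0, 0, 0]

theorem u19_4 : okPath A uWord uPath4 uHints4 = true := by decide +kernel

/-- the images of a test point under its powers -/
def uPath5 : List (Nat × List Nat) :=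
  [(1, [4, 2, 2]),
  (3, [0, 2, 0, 2, 2, 2, 0, 2, 0, 2, 2, 0, 3, 0, 3, 3, 0, 2, 2, 1, 3, 4]),
  (4, [4, 2, 0, 2, 2, 2, 0, 2, 2, 0, 4, 2, 0, 3, 3, 0, 3, 0, 4, 2, 0]),
  (4, [2, 2, 0, 4, 3, 0, 3, 0, 3, 4, 3, 3, 4, 3, 4, 3, 4, 3, 4]),
  (5, [2, 2, 0, 3, 0, 3, 3, 0, 2, 0, 2, 4, 2, 2, 4, 3, 0, 2, 4, 2, 4]),
  (6, [2, 2, 4, 2, 2, 0, 2, 2, 0, 3, 3, 1, 4, 3, 3, 4, 3, 4, 2, 4]),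
  (6, [3, 4, 3, 4, 3, 3, 0, 4, 3, 4, 3, 3, 4, 2, 2, 4, 2, 2, 4]),
  (4, [0, 2, 0, 2, 0, 2, 0, 4, 2, 2, 0, 2, 2, 2, 4, 3, 1, 3]),
  (6, [0, 2, 0, 2, 4, 2, 2, 2, 4, 3, 3, 0, 4, 2, 4, 2, 0, 2, 1]),
  (5, [3, 3, 4, 3, 0, 4, 2, 2, 4, 2, 0, 2, 2, 4, 2, 2, 4, 2, 4, 3]),
  (6, [2, 4, 2, 2, 0, 3, 0, 3, 3, 0, 3, 0, 2, 2, 0, 4, 2, 1, 4, 3]),
  (5, [0, 4, 2, 4, 2, 0, 2, 0, 2, 0, 3, 4, 3, 0, 2, 0, 2, 2, 4, 2, 1, 3, 4]),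
  (5, [3, 0, 4, 3, 3, 0, 3, 0, 3, 0, 2, 4, 2, 2, 0, 3, 0, 3, 3, 4, 3, 4]),
  (8, [0, 2, 2, 2, 0, 2, 2, 0, 2, 4, 2, 4, 2, 4, 2, 2, 4, 3, 0, 4, 3]),
  (6, [0, 3, 4, 2, 2, 2, 0, 3, 0, 3, 3, 1, 2, 2, 4, 3, 4, 2, 2]),
  (6, [3, 3, 4, 2, 4, 2, 4, 2, 4, 2, 0, 3, 0, 3, 3, 0, 3, 3, 1, 4]),
  (5, [2, 2, 4, 2, 2, 2, 0, 3, 3, 0, 4, 2, 4, 2, 0, 2, 0, 3, 1, 2]),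
  (4, [4, 2, 2, 2, 0, 3, 3, 0, 4, 2, 2, 2, 4, 3, 3, 0, 3, 3, 0, 3, 0, 2]),
  (4, [2, 4, 2, 0, 2, 2, 0, 3, 4, 2, 2, 0, 2, 2, 2, 0, 2]),
  (1, [4, 2, 2])]

/-- hints -/
def uHints5 : List Nat := [0, 0, 0, 0, 0, 0, 0, 0, 0, 0, 0, 0, 0, 0, 0, 0, 0, 0, 0]

theorem u19_5 : okPath A uWord uPath5 uHints5 = true := by decide +kernel

/-- the paths -/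
def uPaths : List (List (Nat × List Nat) × List Nat) :=
  [(uPath0, uHints0), (uPath1, uHints1), (uPath2, uHints2), (uPath3, uHints3), (uPath4, uHints4), (uPath5, uHints5)]

/-- an element of order 19 -/
def vWord : List Nat := [6, 6, 2, 2, 0, 3, 6, 6, 4]

/-- the images of a test point under its powers -/
def vPath0 : List (Nat × List Nat) :=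
  [(0, []),
  (1, [2, 2, 0, 3, 4]),
  (2, [3, 3, 0, 3, 0, 4, 3, 3, 4, 3, 3, 0, 3, 4, 3, 4, 3, 3, 1, 2, 4]),
  (1, [4, 2, 4, 2, 2, 2, 4, 3, 3, 0, 2, 0, 2, 2, 0, 4, 2, 0, 2, 1]),
  (3, [2, 0, 2, 0, 4, 3, 3, 4, 2, 4, 2, 4, 2, 4, 2, 0, 2, 2, 4, 3, 3, 0, 4]),
  (6, [2, 0, 2, 0, 2, 2, 0, 3, 0, 3, 3, 4, 3, 4, 3, 4, 2, 2, 0, 4, 2, 0, 3]),
  (5, [3, 0, 2, 2, 2, 4, 2, 2, 0, 3, 0, 2, 2, 0, 3, 4]),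
  (5, [2, 2, 0, 2, 2, 4, 3, 3, 4, 2, 2, 0, 3, 4, 2, 2, 2, 0, 4, 3, 4, 3, 0]),
  (8, [3, 0, 3, 0, 2, 0, 4, 2, 2, 4, 2, 4, 2, 4, 2, 2, 0, 2, 2, 4, 2, 1]),
  (6, [3, 3, 0, 3, 0, 3, 3, 0, 3, 3, 4, 2, 2, 4, 2, 2, 4, 3, 3]),
  (6, [2, 2, 0, 3, 3, 0, 3, 3, 0, 4, 3, 4, 3, 3, 0, 3, 0, 4, 2, 2, 0, 4]),
  (8, [2, 0, 3, 4, 3, 3, 4, 2, 2, 0, 2, 4, 2, 2, 2, 4, 3, 4, 3, 0, 3, 4]),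
  (5, [3, 0, 3, 3, 0, 3, 0, 3, 3, 0, 2, 0, 2, 2, 1, 3, 4, 3, 4, 3, 4]),
  (5, [3, 0, 3, 3, 0, 3, 0, 2, 2, 0, 3, 0, 3, 3, 0, 2, 1, 4, 2, 2, 2]),
  (6, [0, 2, 0, 2, 4, 3, 4, 2, 2, 0, 2, 2, 0, 2, 4, 2, 0, 3, 3, 4]),
  (3, [0, 2, 2, 4, 3, 0, 4, 2, 2, 2, 4, 2, 2, 0, 4, 2, 4, 2, 1, 2]),
  (1, [2, 4, 2, 2, 2, 0, 3, 0, 2, 4, 2, 4, 2, 4, 2, 2, 4, 3, 1, 2]),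
  (2, [0, 2, 4, 3, 4, 3, 0, 2, 0, 2, 0, 3, 1, 3, 3, 4, 2, 2, 2]),
  (1, [0, 2, 0, 2, 2, 0, 2, 2, 0, 3, 3, 0, 2, 2, 0, 3, 3, 0, 3, 3, 1]),
  (0, [])]

/-- hints -/
def vHints0 : List Nat := [0, 0, 0, 0, 0, 0, 0, 0, 0, 0, 0, 0, 0, 0, 0, 0, 0, 0, 0]

theorem v19_0 : okPath A vWord vPath0 vHints0 = true := by decide +kernel

/-- the images of a test point under its powers -/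
def vPath1 : List (Nat × List Nat) :=
  [(1, []),
  (1, [0, 2, 0, 3, 0, 2, 2, 0, 3, 4]),
  (1, [0, 3, 0, 3, 0, 3, 0, 3, 3, 4, 3, 3, 1, 3, 3, 4, 2, 2, 4, 2, 4]),
  (3, [0, 2, 0, 3, 3, 0, 4, 2, 2, 0, 2, 0, 3, 3, 0, 3, 3, 0, 3, 0]),
  (4, [4, 3, 4, 3, 3, 0, 4, 2, 0, 2, 2, 4, 2, 0, 3, 0, 3, 4, 3, 4, 3, 3]),
  (5, [4, 2, 0, 3, 4, 3, 3, 0, 3, 0, 3, 3, 4, 3, 3, 0, 4, 3, 1, 2]),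
  (5, [3, 4, 3, 3, 4, 3, 0, 2, 2, 0, 2, 0, 3, 4, 3, 4, 3, 0, 3, 4, 3, 0]),
  (6, [4, 2, 0, 2, 0, 2, 4, 2, 0, 3, 0, 3, 4, 3, 3, 4, 2, 1, 2]),
  (5, [0, 2, 0, 2, 0, 2, 0, 3, 0, 3, 3, 0, 3, 0, 3, 0, 2, 2, 4, 2, 4]),
  (5, [0, 2, 4, 2, 4, 3, 4, 3, 3, 0, 3, 0, 2, 0, 2, 4, 2, 4, 3, 1]),
  (8, [2, 0, 2, 0, 4, 2, 2, 0, 2, 4, 2, 0, 4, 2, 4, 2, 2, 4, 2, 2, 0]),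
  (6, [2, 2, 0, 2, 0, 3, 4, 3, 3, 4, 3, 0, 2, 2, 4, 2, 4, 2, 4]),
  (6, [0, 2, 4, 2, 4, 3, 3, 0, 3, 3, 4, 2, 2, 2, 1, 2, 2]),
  (6, [0, 2, 0, 4, 2, 0, 3, 0, 3, 0, 3, 0, 2, 0, 2, 0, 3, 0, 3, 3, 1, 3]),
  (3, [0, 3, 0, 2, 0, 2, 4, 2, 0, 2, 0, 2, 2, 2, 0, 2, 2, 4, 3, 3]),
  (6, [3, 0, 3, 3, 0, 2, 4, 2, 0, 2, 0, 4, 3, 4, 3, 1, 2, 4, 2]),
  (3, [3, 3, 0, 2, 0, 3, 3, 0, 3, 3, 0, 2, 0, 3, 3, 0, 2]),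
  (1, [3, 0, 2, 4, 3, 3, 4, 3, 3, 4, 3, 3, 0, 4, 2, 4, 2, 2, 2, 4]),
  (3, [0, 3, 3, 4, 3, 3, 4, 3, 3, 0, 4, 3, 0, 3, 0, 2, 0, 3]),
  (1, [])]

/-- hints -/
def vHints1 : List Nat := [0, 0, 0, 0, 0, 0, 0, 0, 0, 0, 0, 0, 0, 0, 0, 0, 0, 0, 0]

theorem v19_1 : okPath A vWord vPath1 vHints1 = true := by decide +kernel

/-- the images of a test point under its powers -/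
def vPath2 : List (Nat × List Nat) :=
  [(1, [4]),
  (1, [4, 3, 0, 4, 2, 2, 0, 3, 3, 0, 3, 0, 4, 2, 4, 2, 0, 2, 2]),
  (3, [2, 0, 2, 2, 4, 3, 0, 2, 4, 2, 4, 2, 2, 0, 2, 1]),
  (4, [2, 0, 3, 4, 3, 3, 0, 2, 0, 2, 2, 0, 3, 0, 3, 3, 0, 2, 2, 0, 3, 0, 4]),
  (5, [2, 4, 3, 0, 3, 4, 3, 4, 3, 3, 0, 2, 2, 4, 2, 4, 2, 0, 2, 2, 4]),
  (5, [0, 3, 0, 2, 2, 4, 2, 0, 3, 3, 0, 3, 4, 3, 0, 3, 4, 3, 4, 3, 4]),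
  (6, [4, 2, 0, 2, 0, 2, 4, 2, 0, 3, 0, 3, 4, 3, 3, 4, 2, 1, 2]),
  (5, [0, 2, 0, 2, 0, 2, 0, 3, 0, 3, 3, 0, 3, 0, 3, 0, 2, 2, 4, 2, 4]),
  (5, [0, 2, 4, 2, 4, 3, 4, 3, 3, 0, 3, 0, 2, 0, 2, 4, 2, 4, 3, 1]),
  (8, [2, 0, 2, 0, 4, 2, 2, 0, 2, 4, 2, 0, 4, 2, 4, 2, 2, 4, 2, 2, 0]),
  (6, [2, 2, 0, 2, 0, 3, 4, 3, 3, 4, 3, 0, 2, 2, 4, 2, 4, 2, 4]),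
  (6, [0, 2, 4, 2, 4, 3, 3, 0, 3, 3, 4, 2, 2, 2, 1, 2, 2]),
  (6, [0, 2, 0, 4, 2, 0, 3, 0, 3, 0, 3, 0, 2, 0, 2, 0, 3, 0, 3, 3, 1, 3]),
  (3, [0, 3, 0, 2, 0, 2, 4, 2, 0, 2, 0, 2, 2, 2, 0, 2, 2, 4, 3, 3]),
  (6, [3, 0, 3, 3, 0, 2, 4, 2, 0, 2, 0, 4, 3, 4, 3, 1, 2, 4, 2]),
  (3, [3, 3, 0, 2, 0, 3, 3, 0, 3, 3, 0, 2, 0, 3, 3, 0, 2]),
  (1, [3, 0, 2, 4, 3, 3, 4, 3, 3, 4, 3, 3, 0, 4, 2, 4, 2, 2, 2, 4]),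
  (3, [0, 3, 3, 4, 3, 3, 4, 3, 3, 0, 4, 3, 0, 3, 0, 2, 0, 3]),
  (1, [0, 2, 0, 2, 0, 2, 2, 2, 0, 3, 0, 3, 3, 1, 3, 3]),
  (1, [4])]

/-- hints -/
def vHints2 : List Nat := [0, 0, 0, 0, 0, 0, 0, 0, 0, 0, 0, 0, 0, 0, 0, 0, 0, 0, 0]

theorem v19_2 : okPath A vWord vPath2 vHints2 = true := by decide +kernel

/-- the images of a test point under its powers -/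
def vPath3 : List (Nat × List Nat) :=
  [(1, [4, 2]),
  (1, [2, 4, 2, 2, 2, 0, 3, 4, 3, 4, 3, 4, 3, 0, 3, 0, 2, 4, 2, 0, 4]),
  (4, [0, 3, 0, 2, 2, 2, 0, 2, 0, 3, 3, 0, 2, 2, 2, 4]),
  (4, [3, 3, 4, 2, 0, 4, 2, 4, 2, 4, 2, 2, 0, 4, 3, 0, 3, 3, 0, 2, 2, 0]),
  (5, [0, 3, 3, 4, 2, 2, 2, 0, 3, 1, 2, 2, 2, 4, 2, 4, 3, 4, 3, 3]),
  (6, [3, 0, 2, 0, 2, 0, 4, 3, 0, 3, 0, 3, 3, 4, 3, 0, 3, 3, 4, 3, 3, 1]),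
  (5, [0, 3, 0, 4, 2, 2, 0, 2, 4, 2, 4, 2, 0, 3, 4, 3, 3, 0, 2, 0, 2, 4]),
  (6, [0, 2, 0, 2, 0, 2, 0, 3, 0, 4, 3, 0, 2, 2, 4, 2, 2, 4, 3, 3]),
  (5, [3, 4, 3, 0, 3, 0, 4, 3, 4, 3, 0, 3, 3, 4, 3, 3, 4, 2, 2]),
  (4, [3, 3, 0, 4, 3, 0, 2, 2, 0, 2, 2, 0, 2, 2, 0, 2, 2, 2, 0, 3]),
  (5, [0, 3, 4, 3, 0, 3, 3, 4, 3, 3, 0, 3, 0, 2, 1, 2, 4, 2, 2, 4]),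
  (6, [0, 2, 0, 2, 2, 0, 4, 2, 2, 0, 3, 3, 0, 4, 3, 0, 2, 4, 2, 4, 3, 4]),
  (8, [3, 0, 2, 4, 2, 2, 2, 0, 2, 4, 2, 4, 2, 2, 0, 2, 0, 4, 2, 2, 0]),
  (8, [0, 2, 2, 4, 3, 3, 0, 3, 3, 4, 2, 2, 2, 0, 4, 3, 4, 3, 0, 3, 3, 1]),
  (6, [4, 2, 0, 2, 0, 2, 2, 4, 2, 0, 4, 2, 2, 0, 2, 0, 2, 4]),
  (4, [2, 0, 2, 0, 3, 0, 2, 4, 2, 1, 4, 2, 2, 2, 4, 2, 2, 4, 3]),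
  (5, [2, 0, 3, 3, 4, 2, 2, 2, 0, 4, 3, 3, 0, 3, 3, 0, 3, 0, 3, 1]),
  (4, [2, 4, 3, 4, 3, 3, 4, 3, 4, 3, 3, 0, 2, 2, 4, 3, 3, 4, 3, 3]),
  (4, [2, 2, 2, 4, 2, 4, 2, 0, 3, 0, 3, 3, 4, 2, 2, 2, 1, 2, 2, 4, 2, 4]),
  (1, [4, 2])]

/-- hints -/
def vHints3 : List Nat := [0, 0, 0, 0, 0, 0, 0, 0, 0, 0, 0, 0, 0, 0, 0, 0, 0, 0, 0]

theorem v19_3 : okPath A vWord vPath3 vHints3 = true := by decide +kernel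

/-- the images of a test point under its powers -/
def vPath4 : List (Nat × List Nat) :=
  [(1, [4, 3]),
  (1, [2, 0, 4, 2, 4, 3, 3, 0, 3, 0, 2, 0, 2, 2, 4, 3, 3, 0, 4, 2, 2]),
  (4, [2, 2, 0, 2, 4, 3, 3, 4, 3, 0, 4, 2, 2, 0, 3, 3, 4, 3, 3, 4, 2]),
  (4, [2, 0, 4, 2, 2, 2, 0, 2, 4, 2, 2, 4, 3, 4, 3, 0, 3, 0, 4, 2]),
  (5, [0, 4, 2, 2, 4, 3, 3, 0, 2, 2, 2, 4, 2, 2, 4, 2, 2, 2, 0, 2, 1, 2]),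
  (6, [0, 3, 3, 0, 2, 4, 2, 4, 2, 2, 0, 4, 2, 0, 2, 0, 3]),
  (6, [0, 4, 2, 0, 3, 4, 3, 3, 0, 3, 3, 4, 2, 4, 2, 4, 2, 0]),
  (6, [2, 2, 2, 0, 4, 2, 2, 4, 3, 3, 0, 3, 4, 3, 4, 3, 0, 3, 4]),
  (4, [2, 0, 2, 4, 3, 3, 4, 2, 2, 0, 2, 0, 4, 3, 0, 3, 1, 2, 4, 2, 2]),
  (6, [3, 0, 4, 3, 0, 3, 4, 3, 3, 0, 3, 0, 4, 3, 3, 4, 3, 1]),
  (7, [3, 0, 2, 2, 0, 3, 0, 2, 2, 2, 0, 2, 0, 2, 1, 3, 3, 4]),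
  (6, [2, 0, 2, 4, 2, 2, 4, 3, 3, 0, 3, 3, 4, 3, 4, 3, 0, 3]),
  (4, [0, 3, 3, 0, 2, 0, 2, 4, 2, 0, 2, 4, 2, 4, 3, 3, 4, 2, 2, 0, 2, 2]),
  (6, [0, 2, 2, 2, 4, 2, 4, 2, 4, 2, 2, 0, 2, 2, 4, 3, 0, 3, 1, 2, 2]),
  (6, [0, 3, 0, 3, 0, 2, 2, 4, 2, 2, 0, 2, 4, 2, 4, 2, 2, 4, 3, 3, 1, 2, 4]),
  (6, [2, 4, 2, 2, 0, 3, 0, 2, 4, 2, 4, 2, 4, 2, 2, 2, 4, 3, 1, 3, 3]),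
  (5, [2, 0, 2, 2, 0, 2, 0, 2, 0, 4, 2, 2, 2, 4, 2, 2, 1, 2, 2, 4]),
  (4, [2, 2, 2, 4, 2, 2, 4, 2, 0, 2, 2, 4, 2, 2, 4, 2, 0, 2, 4, 3, 4]),
  (4, [4, 3, 3, 0, 3, 3, 4, 3, 0, 3, 3, 4, 2, 2, 4, 2, 2, 0, 3, 1, 4, 2]),
  (1, [4, 3])]

/-- hints -/
def vHints4 : List Nat := [0, 0, 0, 0, 0, 0, 0, 0, 0, 0, 0, 0, 0, 0, 0, 0, 0, 0, 0]

theorem v19_4 : okPath A vWord vPath4 vHints4 = true := by decide +kernel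

/-- the images of a test point under its powers -/
def vPath5 : List (Nat × List Nat) :=
  [(1, [4, 2, 2]),
  (1, [3, 4, 2, 2, 0, 2, 0, 2, 2, 4, 2, 0, 4, 3, 3, 4, 2, 0, 3, 3, 1]),
  (4, [0, 3, 3, 0, 2, 0, 2, 0, 2, 0, 3, 0, 2, 2, 2, 1, 3, 4]),
  (4, [0, 2, 4, 2, 4, 2, 0, 3, 4, 3, 3, 4, 3, 0, 3, 1, 3, 4, 2]),
  (5, [4, 2, 2, 0, 3, 3, 4, 3, 0, 2, 4, 2, 2, 4, 2, 0, 2, 0, 4, 2, 4]),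
  (6, [3, 0, 3, 0, 3, 4, 3, 0, 3, 3, 4, 3, 0, 3, 3, 4, 3, 3, 1, 2, 2, 2]),
  (8, [3, 4, 3, 0, 3, 3, 0, 2, 2, 0, 2, 0, 3, 4, 3, 4, 3, 3, 4, 3]),
  (5, [0, 3, 3, 0, 3, 3, 0, 4, 2, 2, 0, 2, 0, 4, 3, 0, 3, 3, 4]),
  (4, [3, 4, 2, 2, 2, 0, 3, 3, 0, 2, 4, 2, 2, 2, 4, 2]),
  (8, [0, 4, 2, 0, 2, 2, 4, 2, 4, 2, 0, 3, 0, 3, 0]),
  (4, [0, 3, 4, 3, 0, 3, 4, 3, 4, 3, 0, 3, 3, 4, 3, 0, 2, 4, 2, 0]),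
  (5, [2, 0, 2, 0, 3, 4, 3, 0, 4, 3, 3, 4, 3, 1, 3, 3, 4, 3, 4, 3, 4, 3, 3]),
  (6, [0, 2, 0, 3, 3, 4, 2, 2, 4, 2, 0, 2, 2, 4, 2, 0, 2]),
  (6, [2, 2, 2, 4, 2, 2, 0, 2, 2, 4, 3, 4, 3, 0, 3, 0, 4, 2, 2, 2]),
  (5, [2, 2, 2, 0, 2, 4, 2, 0, 2, 0, 4, 2, 4, 3, 3, 4, 2, 2, 4, 2, 2]),
  (6, [4, 2, 2, 2, 0, 3, 0, 2, 2, 2, 4, 2, 4, 2, 2, 1, 2, 4, 2, 4, 2, 2]),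
  (5, [0, 3, 0, 3, 3, 0, 3, 0, 3, 3, 0, 2, 2, 0, 2, 1, 3, 4, 2, 2, 2]),
  (4, [0, 2, 0, 4, 2, 2, 0, 2, 2, 2, 4, 2, 2, 2, 1, 4, 2, 4, 2]),
  (4, [2, 2, 2, 0, 3, 0, 3, 3, 0, 3, 1, 4, 3, 3, 4, 3, 4, 3, 3, 4, 2, 4]),
  (1, [4, 2, 2])]

/-- hints -/
def vHints5 : List Nat := [0, 0, 0, 0, 0, 0, 0, 0, 0, 0, 0, 0, 0, 0, 0, 0, 0, 0, 0]

theorem v19_5 : okPath A vWord vPath5 vHints5 = true := by decide +kernel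

/-- the paths -/
def vPaths : List (List (Nat × List Nat) × List Nat) :=
  [(vPath0, vHints0), (vPath1, vHints1), (vPath2, vHints2), (vPath3, vHints3), (vPath4, vHints4), (vPath5, vHints5)]

end CfsgLib.Spor.HN.AD
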