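import Cfsg.Agent.Lib.Spor.HN.ActRho
import Cfsg.Agent.Lib.Spor.HN.SimpleData
import Cfsg.Agent.Lib.PresCert.Simple
import Cfsg.Prelude.Def_Sporadic

/-!
The presented Harada-Norton group is simple: it acts faithfully on 1539000 points, a non-trivial
normal subgroup is transitive, so has order divisible by 19, so contains every element of order 19,
and the square of `t` is a quotient of two of them.
-/

namespace CfsgLib.Spor.HN

open CfsgLib.PresCert CfsgLib.DCE

theorem ghn_finite : Finite GHN := Nat.finite_of_card_ne_zero (by rw [ghn_card]; norm_num)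

theorem mem_range_of_fix {g : GHN} (hg : rho g omega0 = omega0) : g ∈ psiK.range := by
  have := ghn_finite
  let _ : MulAction GHN Omega := MulAction.compHom Omega rho
  have : MulAction.IsPretransitive GHN Omega := by
    refine ⟨fun a b => ?_⟩
    obtain ⟨g, rfl⟩ := rho_transitive a
    obtain ⟨g', rfl⟩ := rho_transitive b
    refine ⟨g' * g⁻¹, ?_⟩
    show rho (g' * g⁻¹) (rho g omega0) = rho g' omega0
    rw [← Equiv.Perm.mul_apply, ← map_mul, inv_mul_cancel_right]
  have hle : psiK.range ≤ MulAction.stabilizer GHN omega0 := by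
    rintro _ ⟨u, rfl⟩
    show rho (psiK u) omega0 = omega0
    rw [← MonoidHom.comp_apply rho psiK, rho_psiK]
    show u • omega0 = omega0
    rw [omega0, actK.smul_pnt, actK.pnt_eq_iff, stab0_top]
    trivial
  have heq : psiK.range = MulAction.stabilizer GHN omega0 := by
    refine Subgroup.eq_of_le_of_card_ge hle ?_
    have e1 := psiK.range.card_mul_index
    have e2 := (MulAction.stabilizer GHN omega0).card_mul_index
    rw [MulAction.index_stabilizer_of_transitive, card_Omega] at e2
    rw [psiK_index] at e1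
    omega
  rw [heq]
  exact hg

theorem rho_injective : Function.Injective rho := by
  refine (injective_iff_map_eq_one _).2 fun g hg => ?_
  obtain ⟨h, rfl⟩ := mem_range_of_fix (g := g) (by rw [hg]; rfl)
  rw [fix_one_eq_one (h := h) fun z => ?_, map_one]
  show permHom h z = z
  rw [← rho_psiK, MonoidHom.comp_apply, hg]
  rfl

theorem iterate_rho {l : List Nat} (hl : ∀ x ∈ l, x < 7) (n : ℕ) (z : Omega) :
    rho ((wv hgen l)⁻¹ ^ n) z = (actK.run l)^[n] z := by
  have e : ∀ z : Omega, rho (wv hgen l)⁻¹ z = actK.run l z := fun z => by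
    rw [← run_rho l hl z, map_inv, map_wv]
    exact congrArg (fun f => (wv f l)⁻¹ z) (funext rho_hgen)
  induction n generalizing z with
  | zero => simp
  | succ n ih => rw [pow_succ, map_mul, Equiv.Perm.mul_apply, e, ih, Function.iterate_succ_apply]

/-- a word whose 19th power fixes the test points has order dividing 19 -/
theorem pow19_eq_one {l : List Nat} (hl : ∀ x ∈ l, x < 7)
    (paths : List (List (Nat × List Nat) × List Nat))
    (hp : ∀ q ∈ paths, okPath AD.A l q.1 q.2 = true)
    (hshape : (allBelow paths.length fun i =>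
      let st := (paths.getD i ([], [])).1
      Nat.blt 19 st.length && ((st.getD 19 (0, [])) == (st.getD 0 (0, []))) &&
        (bif Nat.beq i 0 then (st.getD 0 (0, [])) == (0, [])
        else (st.getD 0 (0, [])).1 == 1)) = true)
    (hbase : (GK.base.all fun b => (List.range paths.length).any fun i =>
      Nat.blt 0 i && ((((paths.getD i ([], [])).1.getD 0 (0, [])).2).all fun x => Nat.blt x GK.P.g) &&
        Nat.beq (GK.P.app (((paths.getD i ([], [])).1.getD 0 (0, [])).2) 0) b) = true)
    (hlen : 0 < paths.length) :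
    (wv hgen l)⁻¹ ^ 19 = 1 := by
  have fix : ∀ i < paths.length, ∃ h0 : ((paths.getD i ([], [])).1.getD 0 (0, [])).1 < AD.A.orbs.length,
      rho ((wv hgen l)⁻¹ ^ 19)
          (actK.pnt ⟨_, h0⟩ (permsK.val ((paths.getD i ([], [])).1.getD 0 (0, [])).2)) =
        actK.pnt ⟨_, h0⟩ (permsK.val ((paths.getD i ([], [])).1.getD 0 (0, [])).2) := by
    intro i hi
    have hq : paths.getD i ([], []) ∈ paths := by
      rw [List.getD_eq_getElem?_getD, List.getElem?_eq_getElem hi]
      exact List.getElem_mem hi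
    have hs := allBelow_spec hshape i hi
    simp only [Bool.and_eq_true, Nat.blt_eq, beq_iff_eq] at hs
    obtain ⟨⟨h19, heq⟩, -⟩ := hs
    obtain ⟨h0, hi', e⟩ := actK.iterate_of_path (hp _ hq) 19 h19
    refine ⟨h0, ?_⟩
    rw [iterate_rho hl]
    refine e.trans ?_
    refine actK.pnt_congr (Fin.ext (congrArg Prod.fst heq)) ?_
    have e2 : actK.M.val ((paths.getD i ([], [])).1.getD 19 (0, [])).2 =
        permsK.val ((paths.getD i ([], [])).1.getD 0 (0, [])).2 :=
      congrArg (fun q : Nat × List Nat => permsK.val q.2) heq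
    rw [e2, mul_inv_cancel]
    exact one_mem _
  apply rho_injective
  rw [map_one]
  generalize hg : (wv hgen l)⁻¹ ^ 19 = g at fix
  obtain ⟨h00, e0⟩ := fix 0 hlen
  have hs0 := allBelow_spec hshape 0 hlen
  have hz : (paths.getD 0 ([], [])).1.getD 0 (0, []) = (0, []) := by
    simp only [Bool.and_eq_true] at hs0
    simpa using hs0.2
  have hw0 : actK.pnt ⟨_, h00⟩ (permsK.val ((paths.getD 0 ([], [])).1.getD 0 (0, [])).2) = omega0 := by
    refine actK.pnt_congr (Fin.ext (congrArg Prod.fst hz)) ?_
    rw [congrArg Prod.snd hz]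
    simp [Perms.val, wv]
  rw [hw0] at e0
  obtain ⟨h, rfl⟩ := mem_range_of_fix e0
  suffices h = 1 by rw [this, map_one, map_one]
  refine k_faithful.1 h fun b hb => ?_
  simp only [List.all_eq_true, List.any_eq_true, List.mem_range, Bool.and_eq_true, Nat.blt_eq,
    Nat.beq_eq] at hbase
  obtain ⟨i, hi, ⟨hipos, hqlt⟩, hib⟩ := hbase b hb
  obtain ⟨hi0, ei⟩ := fix i hi
  have hsi := allBelow_spec hshape i hi
  simp only [Bool.and_eq_true] at hsi
  have hib0 : Nat.beq i 0 = false := Bool.eq_false_iff.2 fun e => by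
    have := Nat.eq_of_beq_eq_true e; omega
  have hk1 := hsi.2
  rw [hib0, cond_false, beq_iff_eq] at hk1
  generalize (paths.getD i ([], [])).1.getD 0 (0, []) = q at hi0 ei hk1 hib hqlt
  rw [← MonoidHom.comp_apply rho psiK, rho_psiK] at ei
  have hz' : h • actK.pnt ⟨q.1, hi0⟩ (permsK.val q.2) = actK.pnt ⟨q.1, hi0⟩ (permsK.val q.2) := ei
  have hall : ((AD.A.orb 1).gens.all fun w => (w.all fun x => Nat.blt x GK.P.g) &&
      Nat.beq (GK.P.app w 0) 0) = true := by decide +kernel
  rw [actK.smul_pnt, actK.pnt_eq_iff] at hz'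
  have hfix : actK.stab ⟨q.1, hi0⟩ ≤ Ufix := by
    show permsK.sub (AD.A.orb q.1).gens ≤ _
    rw [hk1, Perms.sub, Subgroup.closure_le]
    rintro _ ⟨w, hw, rfl⟩
    have := List.all_eq_true.1 hall w hw
    simp only [Bool.and_eq_true, List.all_eq_true, Nat.blt_eq, Nat.beq_eq] at this
    refine ⟨trivial, fun j hj => Fin.ext ?_⟩
    rw [← permsK.app_eq w this.1 j, List.mem_singleton.1 hj]
    exact this.2
  let s0 : Fin GK.P.n := ⟨0, by decide +kernel⟩
  have hqw : permsK.act (permsK.val q.2) s0 = b := Fin.ext (by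
    rw [← hib]
    exact (permsK.app_eq q.2 hqlt s0).symm)
  have hf := (hfix hz').2 s0 (List.mem_singleton.2 rfl)
  rw [permsK.act_mul, permsK.act_mul, hqw] at hf
  have e : permsK.act h⁻¹ b = b := by
    have h2 := congrArg (permsK.act (permsK.val q.2)) hf
    rwa [← permsK.act_mul _ (permsK.val q.2), inv_mul_cancel, permsK.act_one, hqw] at h2
  conv_lhs => rw [← e]
  rw [← permsK.act_mul, inv_mul_cancel, permsK.act_one]

theorem u_pow : (wv hgen AD.uWord)⁻¹ ^ 19 = 1 :=
  pow19_eq_one (by decide +kernel) AD.uPaths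
    (by
      simp only [AD.uPaths, List.forall_mem_cons, List.not_mem_nil, IsEmpty.forall_iff,
        implies_true, and_true]
      exact ⟨AD.u19_0, AD.u19_1, AD.u19_2, AD.u19_3, AD.u19_4, AD.u19_5⟩)
    (by decide +kernel) (by decide +kernel) (by decide +kernel)

theorem v_pow : (wv hgen AD.vWord)⁻¹ ^ 19 = 1 :=
  pow19_eq_one (by decide +kernel) AD.vPaths
    (by
      simp only [AD.vPaths, List.forall_mem_cons, List.not_mem_nil, IsEmpty.forall_iff,
        implies_true, and_true]
      exact ⟨AD.v19_0, AD.v19_1, AD.v19_2, AD.v19_3, AD.v19_4, AD.v19_5⟩)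
    (by decide +kernel) (by decide +kernel) (by decide +kernel)

theorem v_eq : AD.vWord = [6, 6] ++ AD.uWord := by decide +kernel

theorem closure_hgen : Subgroup.closure (Set.range hgen) = ⊤ := by
  refine top_le_iff.1 ((PresentedGroup.closure_range_of _).symm.trans_le ?_)
  refine Subgroup.closure_mono ?_
  rintro _ ⟨g, rfl⟩
  exact ⟨genIdx g, by cases g <;> rfl⟩

/-- a normal subgroup containing `t²` is everything -/
theorem top_of_tt (N : Subgroup GHN) (hN : N.Normal) (h : hgen 3 * hgen 3 ∈ N) : N = ⊤ := by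
  let q := QuotientGroup.mk' N
  let f : Fin 4 → GHN ⧸ N := fun k => q (hgen k)
  have r : ∀ w ∈ RG, wv f w = 1 := fun w hw => by
    rw [← map_wv q, rel_one w hw, map_one]
  have h3 : f 3 * f 3 = 1 := by
    show q _ * q _ = 1
    rw [← map_mul]
    exact (QuotientGroup.eq_one_iff _).2 h
  have e3 : f 3 = 1 := by
    have h5 := r [6, 6, 6, 6, 6] (by decide +kernel)
    simp only [wv, List.map_cons, List.map_nil, List.prod_cons, List.prod_nil, lv] at h5
    simpa [← mul_assoc, h3] using h5
  have e2 : f 2 = 1 := by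
    have hz := r [4, 4] (by decide +kernel)
    have h6 := r [4, 6, 4, 6, 4, 6] (by decide +kernel)
    simp [wv, lv, e3] at hz h6
    simpa [← mul_assoc, hz] using h6
  have e0 : f 0 = 1 := by
    have hx := r [4, 0, 4, 0] (by decide +kernel)
    have h10 := r [4, 3, 1, 3, 1, 3, 3, 3, 4, 2, 2, 2, 0, 2, 0, 2, 0, 3, 1, 3, 1, 3, 3, 3, 4, 2,
      2, 2, 0, 2, 0, 2, 0, 3, 1, 3, 1, 3, 3, 3, 4, 2, 2, 2, 0, 2, 0, 2, 0] (by decide +kernel)
    simp [wv, lv, e2] at hx h10
    simpa [← mul_assoc, hx] using h10
  have e1 : f 1 = 1 := by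
    have h8 := r [0, 2, 0, 2, 0, 2, 0, 2, 0, 2, 0, 2, 0, 2, 0, 2] (by decide +kernel)
    have h15 := r [1, 2, 2, 0, 2, 2, 2, 1, 2, 2, 0, 2, 2, 2, 1, 2, 2, 0, 2, 2, 2]
      (by decide +kernel)
    simp [wv, lv, e0] at h8 h15
    have a8 : f 1 ^ 8 = 1 := by simpa [pow_succ, mul_assoc] using h8
    have a15 : f 1 ^ 15 = 1 := by simpa [pow_succ, mul_assoc] using h15
    have : f 1 ^ Nat.gcd 8 15 = 1 := pow_gcd_eq_one.2 ⟨a8, a15⟩
    simpa using this
  refine top_le_iff.1 ?_
  rw [← closure_hgen, Subgroup.closure_le]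
  rintro _ ⟨k, rfl⟩
  refine (QuotientGroup.eq_one_iff _).1 ?_
  fin_cases k <;> assumption

theorem fin_sums : ∀ T : Finset (Fin AD.A.orbs.length), ⟨0, zero_lt_orbs⟩ ∈ T →
    (∑ k ∈ T, 177408000 / orders.getD k 0) ∣ 1539000 →
      T = {⟨0, zero_lt_orbs⟩} ∨ T = Finset.univ := by
  decide +kernel

theorem isHN_ghn : Cfsg.IsHN GHN := by
  refine ⟨?_, ghn_card⟩
  classical
  have hfin := ghn_finite
  obtain ⟨hfinK, -⟩ := gk_bound
  have hOm : Finite Omega := Nat.finite_of_card_ne_zero (by rw [card_Omega]; norm_num)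
  let e : Omega ≃ Fin 1539000 := Finite.equivFinOfCardEq card_Omega
  let π : GHN →* Equiv.Perm (Fin 1539000) := e.permCongrHom.toMonoidHom.comp rho
  have hπ : ∀ g z, π g (e z) = e (rho g z) := fun g z => by
    simp [π, Equiv.permCongrHom, Equiv.permCongr_apply]
  have hinj : Function.Injective π := e.permCongrHom.injective.comp rho_injective
  have : Nontrivial GHN := Finite.one_lt_card_iff_nontrivial.1 (by rw [ghn_card]; norm_num)
  have : Fact (Nat.Prime 19) := ⟨by norm_num⟩
  have hK : ∀ (u : GrpK) (z : Omega), rho (psiK u) z = u • z := fun u z => by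
    rw [← MonoidHom.comp_apply rho psiK, rho_psiK]
    rfl
  refine isSimpleGroup_of_pElements 19 (by rw [ghn_card]; norm_num) ?_
    (wv hgen AD.vWord)⁻¹ (wv hgen AD.uWord)⁻¹ v_pow u_pow ?_
  · intro N hN hne
    refine dvd_trans (by norm_num : 19 ∣ 1539000) ?_
    refine dvd_card_normal π hinj (e omega0) psiK.range ?_ psiK_index ?_ ?_ N hN hne
    · rintro _ ⟨u, rfl⟩
      rw [hπ, hK, omega0, actK.smul_pnt, (actK.pnt_eq_iff).2]
      rw [stab0_top]; trivial
    · intro i
      obtain ⟨g, hg⟩ := rho_transitive (e.symm i)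
      exact ⟨g, by rw [hπ, hg, e.apply_symm_apply]⟩
    · intro S h0 hS hdvd
      have hmove : ∀ (u : GrpK) (z : Omega), e z ∈ S → e (u • z) ∈ S := fun u z hz => by
        have := hS (psiK u) ⟨u, rfl⟩ _ hz
        rwa [hπ, hK] at this
      let T : Finset (Fin AD.A.orbs.length) :=
        Finset.univ.filter fun k => e (actK.pnt k 1) ∈ S
      have hmem : ∀ z : Omega, e z ∈ S ↔ z.1 ∈ T := by
        intro z
        obtain ⟨k, h, rfl⟩ := actK.pnt_surj z
        rw [show (actK.pnt k h).1 = k from rfl, Finset.mem_filter]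
        constructor
        · intro hz
          refine ⟨Finset.mem_univ _, ?_⟩
          have := hmove h _ hz
          rwa [actK.smul_pnt, mul_inv_cancel] at this
        · rintro ⟨-, hz⟩
          have := hmove h⁻¹ _ hz
          rwa [actK.smul_pnt, inv_inv, one_mul] at this
      have hidx : ∀ k : Fin AD.A.orbs.length,
          Nat.card (GrpK ⧸ actK.stab k) = 177408000 / orders.getD k 0 := by
        intro k
        have := (actK.stab k).index_mul_card
        rw [k_faithful.2, show Nat.card (actK.stab k) = orders.getD k 0 from stab_card k.2] at this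
        rw [← this]
        refine (Nat.mul_div_left _ ?_).symm
        rw [← stab_card k.2]
        exact Nat.card_pos
      have hn : S.ncard = ∑ k ∈ T, 177408000 / orders.getD k 0 := by
        rw [← Nat.card_coe_set_eq]
        rw [Nat.card_congr ((e.subtypeEquiv (p := fun z : Omega => z.1 ∈ T)
          fun z => (hmem z).symm).symm.trans
          (Equiv.subtypeSigmaEquiv (fun k : Fin AD.A.orbs.length => GrpK ⧸ actK.stab k)
            fun k => k ∈ T))]
        rw [Nat.card_sigma]
        simp only [hidx]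
        exact Finset.sum_coe_sort T fun k => 177408000 / orders.getD k 0
      have hT0 : (⟨0, zero_lt_orbs⟩ : Fin AD.A.orbs.length) ∈ T := (hmem omega0).1 h0
      rcases fin_sums T hT0 (hn ▸ hdvd) with hT | hT
      · left
        ext i
        constructor
        · intro hi
          obtain ⟨k, h, hz⟩ := actK.pnt_surj (e.symm i)
          have hk := (hmem (e.symm i)).1 (by rwa [e.apply_symm_apply])
          rw [hT, Finset.mem_singleton, ← hz] at hk
          have hk' : k = ⟨0, zero_lt_orbs⟩ := hk
          subst hk'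
          rw [Set.mem_singleton_iff, ← e.apply_symm_apply i, ← hz, omega0]
          refine congrArg e ((actK.pnt_eq_iff).2 ?_)
          rw [stab0_top]; trivial
        · rintro rfl
          exact h0
      · right
        refine Set.eq_univ_of_forall fun i => ?_
        rw [← e.apply_symm_apply i, hmem, hT]
        exact Finset.mem_univ _
  · intro N hN h
    refine top_of_tt N hN ?_
    rw [v_eq, wv_append, show wv hgen [6, 6] = hgen 3 * hgen 3 by simp [wv, lv]] at h
    generalize wv hgen AD.uWord = g at h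
    have h2 := hN.conj_mem _ h g
    convert h2 using 1
    simp [mul_assoc]

end CfsgLib.Spor.HN
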