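import Cfsg.Agent.Lib.Spor.HN.Rels
import Cfsg.Agent.Lib.Spor.HN.H0Cert
import Cfsg.Agent.Lib.Spor.HN.UCert

/-!
The group on `y, w` has order at most 378000, and the group on `x, y` at most 1512000.
-/

namespace CfsgLib.Spor.HN

open CfsgLib.PresCert CfsgLib.DCE

private theorem rels_g0 : (H0.cert.rels.all fun r =>
    (r.all fun x => Nat.blt x 4) && R0.contains r) = true := by decide +kernel

theorem g0_bound : Finite Grp0 ∧ Nat.card Grp0 ≤ 120 := by
  let M : CfsgLib.PresCert.Model H0.cert Grp0 :=
    { gen := lv Grp.gen
      gen_inv := by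
        intro x hx
        have : x < 4 := hx
        refine ⟨?_, ?_⟩
        · interval_cases x <;> decide
        · rw [show H0.cert.iv x = Nat.xor x 1 by interval_cases x <;> decide, lv_xor]
      rels_eq := by
        intro r hr
        have h := List.all_eq_true.1 rels_g0 r hr
        simp only [Bool.and_eq_true, List.all_eq_true, Nat.blt_eq, List.contains_iff_mem] at h
        exact ⟨h.1, Grp.wv_rel h.2⟩
      sub := ⊥
      subs_mem := by intro r hr; simp [H0.cert] at hr
      closure_gen := by
        refine top_le_iff.1 ((Grp.closure_gen (m := 2) (rels := R0)).symm.trans_le ?_)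
        refine Subgroup.closure_mono ?_
        rintro _ ⟨k, rfl⟩
        refine ⟨2 * k, show 2 * (k : Nat) < 4 by omega, ?_⟩
        rw [lv, dif_pos (show 2 * (k : Nat) / 2 < 2 by omega), if_pos (by omega)]
        exact congrArg Grp.gen (Fin.ext (by simp)) }
  obtain ⟨h, hf⟩ := Cert.index_le M H0.valid
  have e : M.sub.index = Nat.card Grp0 := Subgroup.index_bot
  rw [e] at h
  exact ⟨Nat.finite_of_card_ne_zero (e ▸ hf.index_ne_zero), h⟩

private theorem sub_u : (R0.all fun w => RU.contains (subst [[0], [2, 2, 2]] w)) = true := by
  decide +kernel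

/-- the group of order 120 maps to the group on `y, w` -/
noncomputable def psi0 : Grp0 →* GrpU :=
  Grp.lift (fun k : Fin 2 => wv Grp.gen ([[0], [2, 2, 2]].getD k [])) (subst_rels rfl sub_u)

/-- the letters of the certificate for the group on `y, w` -/
noncomputable def genU (x : Nat) : GrpU :=
  if x < 4 then lv Grp.gen x else wv Grp.gen (if x = 4 then [2, 2, 2] else [3, 3, 3])

private theorem rels_u : (U.cert.rels.all fun r => (r.all fun x => Nat.blt x 6) &&
    (RU.contains r || r == [5, 2, 2, 2])) = true := by decide +kernel

theorem gu_bound : Finite GrpU ∧ Nat.card GrpU ≤ 378000 := by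
  have w333 : wv (Grp.gen (m := 2) (rels := RU)) [3, 3, 3] =
      (wv (Grp.gen (m := 2) (rels := RU)) [2, 2, 2])⁻¹ := by
    rw [← wv_ivw]; rfl
  let M : CfsgLib.PresCert.Model U.cert GrpU :=
    { gen := genU
      gen_inv := by
        intro x hx
        have : x < 6 := hx
        refine ⟨?_, ?_⟩
        · interval_cases x <;> decide
        · rw [show U.cert.iv x = Nat.xor x 1 by interval_cases x <;> decide]
          interval_cases x
          · simp [genU, lv]
          · simp [genU, lv]
          · simp [genU, lv]
          · simp [genU, lv]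
          · exact w333
          · show genU 4 = (genU 5)⁻¹
            simp only [genU, show ¬(4 : ℕ) < 4 by omega, show ¬(5 : ℕ) < 4 by omega, if_false,
              if_true, show ¬(5 : ℕ) = 4 by omega]
            rw [w333, inv_inv]
      rels_eq := by
        intro r hr
        have h := List.all_eq_true.1 rels_u r hr
        simp only [Bool.and_eq_true, List.all_eq_true, Nat.blt_eq, Bool.or_eq_true,
          List.contains_iff_mem, beq_iff_eq] at h
        refine ⟨h.1, ?_⟩
        rcases h.2 with h2 | rfl
        · rw [← Grp.wv_rel h2]
          unfold wv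
          congr 1
          refine List.map_congr_left fun x hx => ?_
          rw [genU, if_pos]
          have : ∀ w ∈ RU, ∀ x ∈ w, x < 4 := by decide
          exact this r h2 x hx
        · simp only [List.map_cons, List.map_nil, List.prod_cons, List.prod_nil, mul_one, genU,
            show ¬(5 : ℕ) < 4 by omega, show (2 : ℕ) < 4 by omega, if_true, if_false,
            show ¬(5 : ℕ) = 4 by omega, w333]
          simp only [wv, List.map_cons, List.map_nil, List.prod_cons, List.prod_nil, mul_one]
          group
      sub := psi0.range
      subs_mem := by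
        intro r hr
        simp only [U.cert, List.mem_cons, List.not_mem_nil, or_false] at hr
        rcases hr with rfl | rfl
        · exact ⟨Grp.gen 0, by simp [psi0, genU, wv, lv]⟩
        · exact ⟨Grp.gen 1, by simp [psi0, genU, wv, lv]⟩
      closure_gen := by
        refine top_le_iff.1 ((Grp.closure_gen (m := 2) (rels := RU)).symm.trans_le ?_)
        refine Subgroup.closure_mono ?_
        rintro _ ⟨k, rfl⟩
        refine ⟨2 * k, show 2 * (k : Nat) < 6 by omega, ?_⟩
        rw [genU, if_pos (show 2 * (k : Nat) < 4 by omega), lv,
          dif_pos (show 2 * (k : Nat) / 2 < 2 by omega), if_pos (by omega)]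
        exact congrArg Grp.gen (Fin.ext (by simp)) }
  obtain ⟨h, hf⟩ := Cert.index_le M U.valid
  obtain ⟨hfin, h0⟩ := g0_bound
  have hr : Nat.card psi0.range ≤ 120 :=
    (Nat.card_le_card_of_surjective _ psi0.rangeRestrict_surjective).trans h0
  have hfr : Finite psi0.range := Finite.of_surjective _ psi0.rangeRestrict_surjective
  have hidx : psi0.range.index ≠ 0 := hf.index_ne_zero
  have e : Nat.card psi0.range * psi0.range.index = Nat.card GrpU := Subgroup.card_mul_index _
  have hne : Nat.card GrpU ≠ 0 := by
    rw [← e]
    exact Nat.mul_ne_zero (Nat.card_pos (α := psi0.range)).ne' hidx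
  refine ⟨Nat.finite_of_card_ne_zero hne, ?_⟩
  rw [← e]
  calc Nat.card psi0.range * psi0.range.index ≤ 120 * U.cert.n := Nat.mul_le_mul hr h
    _ = 378000 := rfl

end CfsgLib.Spor.HN
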